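import Mathlib

set_option autoImplicit false

namespace H76.ConjCover

open MulAction Pointwise

/-- A finite group is not the union of the conjugates of a proper subgroup. -/
theorem exists_forall_conj_notMem {G : Type*} [Group G] [Finite G] (M : Subgroup G) (hM : M ≠ ⊤) :
    ∃ g : G, ∀ x : G, x⁻¹ * g * x ∉ M := by
  classical
  by_contra hcon
  push Not at hcon
  have : Fintype G := Fintype.ofFinite G
  have : Fintype (G ⧸ M) := Fintype.ofFinite _
  have : ∀ g : G, Fintype (fixedBy (G ⧸ M) g) := fun g => Fintype.ofFinite _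
  have : Fintype (Quotient (orbitRel G (G ⧸ M))) := Fintype.ofFinite _
  have h1 := sum_card_fixedBy_eq_card_orbits_mul_card_group G (G ⧸ M)
  have h2 : Fintype.card (Quotient (orbitRel G (G ⧸ M))) = 1 := by
    rw [Fintype.card_eq_one_iff]
    refine ⟨Quotient.mk'' ((1 : G) : G ⧸ M), fun y => ?_⟩
    induction y using Quotient.inductionOn' with
    | _ a =>
      induction a using QuotientGroup.induction_on with
      | H z =>
        apply Quotient.sound'
        exact ⟨z, by
          change z • ((1 : G) : G ⧸ M) = z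
          change ((z * 1 : G) : G ⧸ M) = z
          rw [mul_one]⟩
  rw [h2, one_mul] at h1
  have h3 : ∀ g : G, 1 ≤ Fintype.card (fixedBy (G ⧸ M) g) := by
    intro g
    obtain ⟨x, hx⟩ := hcon g
    rw [Nat.one_le_iff_ne_zero, Ne, Fintype.card_eq_zero_iff, not_isEmpty_iff]
    refine ⟨⟨(x : G ⧸ M), ?_⟩⟩
    rw [mem_fixedBy]
    change ((g * x : G) : G ⧸ M) = x
    rw [eq_comm, QuotientGroup.eq]
    simpa [mul_assoc] using hx
  have h4 : 2 ≤ Fintype.card (fixedBy (G ⧸ M) (1 : G)) := by
    have h5 : Fintype.card (fixedBy (G ⧸ M) (1 : G)) = M.index := by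
      rw [Subgroup.index, Nat.card_eq_fintype_card]
      apply Fintype.card_congr
      exact (Equiv.subtypeUnivEquiv (fun x => by rw [mem_fixedBy, one_smul]))
    rw [h5]
    have h6 : M.index ≠ 1 := by rwa [Ne, Subgroup.index_eq_one]
    have h7 : M.index ≠ 0 := Subgroup.index_ne_zero_of_finite
    omega
  have h5 : ∑ g : G, 1 < ∑ g : G, Fintype.card (fixedBy (G ⧸ M) g) :=
    Finset.sum_lt_sum (fun g _ => h3 g) ⟨1, Finset.mem_univ _, h4⟩
  rw [h1, Finset.sum_const, Finset.card_univ, smul_eq_mul, mul_one] at h5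
  exact lt_irrefl _ h5

theorem isCoatom_of_index_prime {G : Type*} [Group G] (M : Subgroup G) (h : (M.index).Prime) :
    IsCoatom M := by
  refine ⟨fun h1 => ?_, fun K hK => ?_⟩
  · rw [h1, Subgroup.index_top] at h
    exact Nat.not_prime_one h
  · have h1 := Subgroup.relIndex_mul_index hK.le
    have h2 : M.relIndex K ≠ 1 := by
      rw [Ne, Subgroup.relIndex_eq_one]
      exact fun h3 => hK.not_ge h3
    have h3 : K.index ∣ M.index := ⟨M.relIndex K, by rw [mul_comm]; exact h1.symm⟩
    rcases (Nat.dvd_prime h).1 h3 with h4 | h4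
    · exact Subgroup.index_eq_one.1 h4
    · exfalso
      rw [h4] at h1
      have h5 : M.index ≠ 0 := h.ne_zero
      apply h2
      exact Nat.eq_of_mul_eq_mul_right (Nat.pos_of_ne_zero h5) (by rw [h1, one_mul])

end H76.ConjCover
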