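import Mathlib
import Cfsg.Prelude.Def_CaseTheorems

set_option autoImplicit false

/-!
Sectional `p`-rank: an internal characterisation and closure properties.
-/

namespace H76.SecRank

open Subgroup Cfsg

variable {p k : ℕ}

/-- Sectional `p`-rank at most `k`, phrased with pairs of subgroups `N ≤ H` with `H / N` elementary abelian. -/
theorem sectionalPRankLE_iff {G : Type*} [Group G] :
    SectionalPRankLE p k G ↔ ∀ N H : Subgroup G, N ≤ H → (∀ x ∈ H, ∀ y ∈ H, x * y * x⁻¹ * y⁻¹ ∈ N) →
      (∀ x ∈ H, x ^ p ∈ N) → N.relIndex H ≤ p ^ k := by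
  constructor
  · intro h N H hNH hcomm hpow
    haveI hN : (N.subgroupOf H).Normal := by
      constructor
      intro n hn g
      rw [mem_subgroupOf] at hn ⊢
      have h1 := hcomm g g.2 n n.2
      have h2 : ((g * n * g⁻¹ : H) : G) = (g * n * (g : G)⁻¹ * (n : G)⁻¹) * n := by
        push_cast; group
      rw [h2]
      exact N.mul_mem h1 hn
    have h1 := h H (N.subgroupOf H) ⊤ ⟨⟨by
      rintro ⟨x, -⟩ ⟨y, -⟩
      apply Subtype.ext
      induction x using QuotientGroup.induction_on with
      | H x =>
        induction y using QuotientGroup.induction_on with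
        | H y =>
          change ((x * y : H) : H ⧸ N.subgroupOf H) = ((y * x : H) : H ⧸ N.subgroupOf H)
          rw [QuotientGroup.eq, mem_subgroupOf]
          have := hcomm (y : G)⁻¹ (H.inv_mem y.2) (x : G)⁻¹ (H.inv_mem x.2)
          simpa [mul_assoc] using this⟩⟩ (by
      intro a _
      induction a using QuotientGroup.induction_on with
      | H x =>
        change ((x ^ p : H) : H ⧸ N.subgroupOf H) = 1
        rw [QuotientGroup.eq_one_iff, mem_subgroupOf]
        exact hpow x x.2)
    rw [Subgroup.card_top] at h1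
    exact h1
  · intro h H N hN A hA hpow
    have h1 := h (N.map H.subtype) ((A.comap (QuotientGroup.mk' N)).map H.subtype)
      (Subgroup.map_mono (by
        intro x hx
        rw [mem_comap, QuotientGroup.mk'_apply, (QuotientGroup.eq_one_iff x).2 hx]
        exact A.one_mem)) (by
      rintro _ ⟨x, hx, rfl⟩ _ ⟨y, hy, rfl⟩
      refine ⟨x * y * x⁻¹ * y⁻¹, ?_, by simp⟩
      rw [SetLike.mem_coe, ← QuotientGroup.eq_one_iff]
      have h2 := congrArg Subtype.val (hA.is_comm.comm ⟨_, hx⟩ ⟨_, hy⟩)
      change QuotientGroup.mk' N x * QuotientGroup.mk' N y = QuotientGroup.mk' N y * QuotientGroup.mk' N x at h2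
      change QuotientGroup.mk' N (x * y * x⁻¹ * y⁻¹) = 1
      rw [map_mul, map_mul, map_mul, h2, map_inv, map_inv]; group) (by
      rintro _ ⟨x, hx, rfl⟩
      refine ⟨x ^ p, ?_, by simp⟩
      rw [SetLike.mem_coe, ← QuotientGroup.eq_one_iff]
      exact hpow _ hx)
    rw [relIndex_map_map_of_injective _ _ H.subtype_injective] at h1
    have h2 : N.relIndex (A.comap (QuotientGroup.mk' N)) = Nat.card A := by
      have h3 := relIndex_ker (A.comap (QuotientGroup.mk' N)) (QuotientGroup.mk' N)
      rw [QuotientGroup.ker_mk', Subgroup.map_comap_eq_self_of_surjective (QuotientGroup.mk'_surjective N)] at h3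
      exact h3
    rwa [h2] at h1

theorem of_injective {G K : Type*} [Group G] [Group K] (f : K →* G) (hf : Function.Injective f)
    (h : SectionalPRankLE p k G) : SectionalPRankLE p k K := by
  rw [sectionalPRankLE_iff] at h ⊢
  intro N H hNH hcomm hpow
  have h1 := h (N.map f) (H.map f) (Subgroup.map_mono hNH) (by
    rintro _ ⟨x, hx, rfl⟩ _ ⟨y, hy, rfl⟩
    exact ⟨_, hcomm x hx y hy, by simp⟩) (by
    rintro _ ⟨x, hx, rfl⟩
    exact ⟨_, hpow x hx, by simp⟩)
  rwa [relIndex_map_map_of_injective _ _ hf] at h1

theorem of_surjective {G K : Type*} [Group G] [Group K] (f : G →* K) (hf : Function.Surjective f)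
    (h : SectionalPRankLE p k G) : SectionalPRankLE p k K := by
  rw [sectionalPRankLE_iff] at h ⊢
  intro N H hNH hcomm hpow
  have h1 := h (N.comap f) (H.comap f) (Subgroup.comap_mono hNH) (by
    intro x hx y hy
    rw [mem_comap] at hx hy ⊢
    simpa using hcomm _ hx _ hy) (by
    intro x hx
    rw [mem_comap] at hx ⊢
    simpa using hpow _ hx)
  rwa [relIndex_comap, Subgroup.map_comap_eq_self_of_surjective hf] at h1

theorem subgroup {G : Type*} [Group G] (h : SectionalPRankLE p k G) (H : Subgroup G) : SectionalPRankLE p k H :=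
  of_injective H.subtype H.subtype_injective h

theorem quotient {G : Type*} [Group G] (h : SectionalPRankLE p k G) (N : Subgroup G) [N.Normal] :
    SectionalPRankLE p k (G ⧸ N) :=
  of_surjective (QuotientGroup.mk' N) (QuotientGroup.mk'_surjective N) h

theorem mulEquiv {G K : Type*} [Group G] [Group K] (e : G ≃* K) (h : SectionalPRankLE p k G) :
    SectionalPRankLE p k K :=
  of_surjective e.toMonoidHom e.surjective h

/-- Every subgroup of the form `N ≤ H` with elementary abelian quotient has index at most `p ^ k`. -/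
theorem relIndex_le {G : Type*} [Group G] (h : SectionalPRankLE p k G) (N H : Subgroup G) (hNH : N ≤ H)
    (hcomm : ∀ x ∈ H, ∀ y ∈ H, x * y * x⁻¹ * y⁻¹ ∈ N) (hpow : ∀ x ∈ H, x ^ p ∈ N) : N.relIndex H ≤ p ^ k :=
  sectionalPRankLE_iff.1 h N H hNH hcomm hpow

end H76.SecRank
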