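import Mathlib
import Cfsg.Prelude.Def_CaseTheorems
import Cfsg.Agent.Lib.H76.PG
import Cfsg.Agent.Lib.H76.PG2
import Cfsg.Agent.Lib.H76.SecRank
import Cfsg.Agent.Lib.H76.Commuting
import Cfsg.Agent.Lib.H76.MaxClass

set_option autoImplicit false

/-!
Finite `2`-groups of sectional rank at most two.
-/

namespace H76.SecRank2

open Subgroup Cfsg

/-- index of the commutator subgroup under a surjection with kernel in the commutator subgroup. -/
theorem index_commutator_of_surjective {G K : Type*} [Group G] [Group K] (f : G →* K)
    (hf : Function.Surjective f) (hker : f.ker ≤ commutator G) :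
    (commutator K).index = (commutator G).index := by
  have h1 : (commutator G).map f = commutator K := by
    rw [commutator_def, commutator_def, Subgroup.map_commutator, ← MonoidHom.range_eq_map,
      MonoidHom.range_eq_top.2 hf]
  rw [← h1]
  exact Subgroup.index_map_eq _ hf hker

theorem index_commutator_congr {G K : Type*} [Group G] [Group K] (e : G ≃* K) :
    (commutator K).index = (commutator G).index :=
  index_commutator_of_surjective e.toMonoidHom e.surjective (by
    rw [(MonoidHom.ker_eq_bot_iff _).2 e.injective]; exact bot_le)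

theorem commutator_ne_bot {G : Type*} [Group G] (h : ¬ IsMulCommutative G) : commutator G ≠ ⊥ := by
  intro h1
  apply h
  refine ⟨⟨fun a b => ?_⟩⟩
  have h2 := commutator_mem_commutator (H₁ := (⊤ : Subgroup G)) (H₂ := ⊤) (mem_top a) (mem_top b)
  rw [← commutator_def, h1, mem_bot, commutatorElement_eq_one_iff_mul_comm] at h2
  exact h2

theorem commutator_le_of_forall {G : Type*} [Group G] (D : Subgroup G)
    (h : ∀ x y : G, x * y * x⁻¹ * y⁻¹ ∈ D) : commutator G ≤ D := by
  rw [commutator_def, Subgroup.commutator_le]
  intro x _ y _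
  exact h x y

theorem comm_mem {G : Type*} [Group G] (x y : G) : x * y * x⁻¹ * y⁻¹ ∈ commutator G := by
  rw [commutator_def]
  exact commutator_mem_commutator (mem_top x) (mem_top y)

theorem isMulCommutative_of_commutator_eq_bot {G : Type*} [Group G] (h : commutator G = ⊥) (x y : G) :
    x * y = y * x := by
  have h1 := comm_mem x y
  rw [h, mem_bot, mul_inv_eq_one, mul_inv_eq_iff_eq_mul] at h1
  exact h1

/-- a nonabelian group of order `8` has commutator subgroup of index `4`. -/
theorem index_commutator_of_card_eight {G : Type*} [Group G] [Finite G] (h8 : Nat.card G = 8)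
    (hna : ¬ IsMulCommutative G) : (commutator G).index = 4 := by
  have h2 : IsPGroup 2 G := IsPGroup.of_card (n := 3) (by rw [h8]; norm_num)
  obtain ⟨D, hDn, hDi, hDc, hDs⟩ := H76.PG2.exists_index_sq h2 (fun h => hna h.isMulCommutative)
  have h1 := commutator_le_of_forall D hDc
  have h3 : Nat.card D = 2 := by
    have := D.card_mul_index
    rw [hDi, h8] at this
    omega
  have h4 : commutator G = D := by
    apply Subgroup.eq_of_le_of_card_ge h1
    rw [h3]
    have h5 := commutator_ne_bot hna
    rw [← Subgroup.one_lt_card_iff_ne_bot] at h5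
    exact h5
  rw [h4, hDi]; norm_num

theorem card_center_of_card_eight {G : Type*} [Group G] [Finite G] (h8 : Nat.card G = 8)
    (hna : ¬ IsMulCommutative G) : Nat.card (center G) = 2 := by
  have h2 : IsPGroup 2 G := IsPGroup.of_card (n := 3) (by rw [h8]; norm_num)
  have h1 := (center G).card_mul_index
  rw [h8] at h1
  have hnc : ¬ IsCyclic (G ⧸ center G) := fun h => hna (isMulCommutative_of_isCyclic_quotient_center_self G)
  have h3 : (center G).index ≠ 1 := by
    intro h
    apply hnc
    rw [Subgroup.index_eq_card, Nat.card_eq_one_iff_unique] at h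
    have := h.1
    exact isCyclic_of_subsingleton
  have h4 : (center G).index ≠ 2 := by
    intro h
    apply hnc
    rw [Subgroup.index_eq_card] at h
    exact isCyclic_of_prime_card h
  have h5 : (center G).index ≠ 8 := by
    intro h
    rw [h] at h1
    have h6 : Nontrivial G := by
      rw [← Finite.one_lt_card_iff_nontrivial, h8]; norm_num
    have h7 := h2.center_nontrivial
    rw [← Finite.one_lt_card_iff_nontrivial] at h7
    omega
  have h6 : (center G).index ∣ 8 := ⟨Nat.card (center G), by rw [← h1]; ring⟩
  have h7 : (center G).index ∣ 2 ^ 3 := h6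
  obtain ⟨j, hj, hj2⟩ := (Nat.dvd_prime_pow Nat.prime_two).1 h7
  interval_cases j
  · exact absurd hj2 h3
  · exact absurd hj2 h4
  · rw [hj2] at h1; omega
  · exact absurd hj2 h5

/-- doubling: an outside element `x` centralizing `A` with `x ^ 2 ∈ D` produces a bigger elementary section. -/
theorem relIndex_double {G : Type*} [Group G] [Finite G] {k : ℕ} (hr : SectionalPRankLE 2 k G) (D A : Subgroup G)
    (hDA : D ≤ A) (hc : ∀ x ∈ A, ∀ y ∈ A, x * y * x⁻¹ * y⁻¹ ∈ D) (hs : ∀ x ∈ A, x ^ 2 ∈ D) (x : G) (hxA : x ∉ A)
    (hcx : ∀ a ∈ A, a * x = x * a) (hx2 : x ^ 2 ∈ D) : 2 * D.relIndex A ≤ 2 ^ k := by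
  have hcx' : ∀ a ∈ A, ∀ b ∈ zpowers x, a * b = b * a := by
    intro a ha b hb
    obtain ⟨i, rfl⟩ := mem_zpowers_iff.1 hb
    have : Commute a x := hcx a ha
    exact this.zpow_right i
  have h1 := H76.SecRank.relIndex_le hr D (A ⊔ zpowers x) (hDA.trans le_sup_left) (by
    intro u hu v hv
    have h2 := H76.Commuting.comm_mem_sup (A₁ := D) (B₁ := ⊥) hcx' hc (by
      intro y hy w hw
      obtain ⟨i, rfl⟩ := mem_zpowers_iff.1 hy
      obtain ⟨j, rfl⟩ := mem_zpowers_iff.1 hw
      rw [mem_bot, (Commute.refl x).zpow_zpow i j |>.eq]; group) u hu v hv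
    rwa [sup_bot_eq] at h2) (by
    intro u hu
    have h2 := H76.Commuting.pow_mem_sup (A₁ := D) (B₁ := D) hcx' hs (by
      intro y hy
      obtain ⟨i, rfl⟩ := mem_zpowers_iff.1 hy
      rw [← zpow_natCast, ← zpow_mul, mul_comm, zpow_mul, zpow_natCast]
      exact zpow_mem hx2 i) u hu
    rwa [sup_idem] at h2)
  have h2 := relIndex_mul_relIndex D A (A ⊔ zpowers x) hDA le_sup_left
  have h3 : A.relIndex (A ⊔ zpowers x) ≠ 1 := by
    rw [Ne, relIndex_eq_one]
    intro h
    exact hxA (h (mem_sup_right (mem_zpowers x)))
  have h4 : A.relIndex (A ⊔ zpowers x) ≠ 0 := Subgroup.index_ne_zero_of_finite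
  calc 2 * D.relIndex A = D.relIndex A * 2 := mul_comm _ _
    _ ≤ D.relIndex A * A.relIndex (A ⊔ zpowers x) := Nat.mul_le_mul_left _ (by omega)
    _ = D.relIndex (A ⊔ zpowers x) := h2
    _ ≤ 2 ^ k := h1

theorem relIndex_centralizer_le {G : Type*} [Group G] (N : Subgroup G) (z : G) (T : Finset G)
    (h : ∀ n ∈ N, n * z * n⁻¹ ∈ T) : (centralizer ({z} : Set G)).relIndex N ≤ T.card := by
  classical
  let f : (N ⧸ (centralizer ({z} : Set G)).subgroupOf N) → T :=
    fun q => Quotient.liftOn' q (fun n : N => (⟨(n : G) * z * (n : G)⁻¹, h n n.2⟩ : T)) (by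
      intro a b hab
      rw [QuotientGroup.leftRel_apply, mem_subgroupOf, mem_centralizer_singleton_iff] at hab
      apply Subtype.ext
      change (a : G) * z * (a : G)⁻¹ = b * z * (b : G)⁻¹
      have h1 : ((a⁻¹ * b : N) : G) = (a : G)⁻¹ * b := by push_cast; rfl
      rw [h1] at hab
      rw [eq_mul_inv_iff_mul_eq]
      calc (a : G) * z * (a : G)⁻¹ * b = a * (z * ((a : G)⁻¹ * b)) := by group
        _ = a * (((a : G)⁻¹ * b) * z) := by rw [← hab]
        _ = b * z := by group)
  have hf : Function.Injective f := by
    intro x y hxy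
    induction x using QuotientGroup.induction_on with
    | H a =>
      induction y using QuotientGroup.induction_on with
      | H b =>
        have h1 : (a : G) * z * (a : G)⁻¹ = b * z * (b : G)⁻¹ := congrArg Subtype.val hxy
        rw [QuotientGroup.eq, mem_subgroupOf, mem_centralizer_singleton_iff]
        have h2 : ((a⁻¹ * b : N) : G) = (a : G)⁻¹ * b := by push_cast; rfl
        rw [h2]
        calc (a : G)⁻¹ * b * z = (a : G)⁻¹ * (b * z * (b : G)⁻¹) * b := by group
          _ = (a : G)⁻¹ * (a * z * (a : G)⁻¹) * b := by rw [h1]
          _ = z * ((a : G)⁻¹ * b) := by group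
  have h1 := Nat.card_le_card_of_injective f hf
  rw [Subgroup.relIndex, Subgroup.index_eq_card]
  simpa using h1

/-- If `S` has sectional rank at most two and has a subgroup `M` of order at least `8` with `|M : M'| = 4`, then
`|S : S'| = 4`. -/
theorem index_commutator_of_contains : ∀ (n : ℕ) (S : Type*) [Group S] [Finite S], Nat.card S = 2 ^ n →
    SectionalPRankLE 2 2 S → ∀ M : Subgroup S, (commutator M).index = 4 → 8 ≤ Nat.card M →
    (commutator S).index = 4 := by
  intro n
  induction n with
  | zero =>
    intro S _ _ hcard _ M _ hM8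
    have h1 : Nat.card M ∣ Nat.card S := Subgroup.card_subgroup_dvd_card M
    rw [hcard, pow_zero, Nat.dvd_one] at h1
    omega
  | succ n ih =>
    intro S _ _ hcard hr M hM hM8
    have hS : IsPGroup 2 S := IsPGroup.of_card hcard
    by_cases hMtop : M = ⊤
    · subst hMtop
      rw [← hM]
      exact (index_commutator_congr Subgroup.topEquiv)
    -- a maximal subgroup containing M
    obtain ⟨M₁, hM₁, hMM₁⟩ : ∃ M₁ : Subgroup S, IsCoatom M₁ ∧ M ≤ M₁ := by
      rcases eq_top_or_exists_le_coatom M with h1 | h1
      · exact absurd h1 hMtop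
      · exact h1
    obtain ⟨hM₁n, hM₁i⟩ := H76.PG2.coatom_normal_index hS M₁ hM₁
    have hcardM₁ : Nat.card M₁ = 2 ^ n := by
      have := M₁.card_mul_index
      rw [hM₁i, hcard, pow_succ] at this
      omega
    have hM₁c : (commutator M₁).index = 4 := by
      refine ih M₁ hcardM₁ (H76.SecRank.subgroup hr M₁) (M.subgroupOf M₁) ?_ ?_
      · rw [← hM]; exact index_commutator_congr (Subgroup.subgroupOfEquivOfLe hMM₁).symm
      · rw [Nat.card_congr (Subgroup.subgroupOfEquivOfLe hMM₁).toEquiv]; exact hM8
    have hM₁8 : 8 ≤ Nat.card M₁ := hM8.trans (Subgroup.card_le_of_le hMM₁)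
    have hM₁na : ¬ IsMulCommutative M₁ := by
      intro h
      have h1 : commutator M₁ = ⊥ := by
        rw [eq_bot_iff]
        apply commutator_le_of_forall
        intro x y
        rw [mem_bot, h.is_comm.comm x y]; group
      rw [h1, Subgroup.index_bot] at hM₁c
      omega
    -- the commutator subgroup of M₁, in S, is normal
    have hcle : (commutator M₁).map M₁.subtype ≤ commutator S := by
      rw [commutator_def, Subgroup.map_commutator, commutator_def]
      exact Subgroup.commutator_mono le_top le_top
    have hnorm : ((commutator M₁).map M₁.subtype).Normal := by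
      infer_instance
    have hne : (commutator M₁).map M₁.subtype ≠ ⊥ := by
      intro h
      rw [Subgroup.map_eq_bot_iff_of_injective _ M₁.subtype_injective] at h
      exact commutator_ne_bot hM₁na h
    obtain ⟨z, hzc, hzZ, hz2⟩ := H76.PG.exists_center_of_normal hS _ hne
    have hz1 : z ≠ 1 := by intro h; rw [h, orderOf_one] at hz2; norm_num at hz2
    have hzn : (zpowers z).Normal := by
      constructor
      intro x hx g
      have hx' : x ∈ center S := (Subgroup.zpowers_le.2 hzZ) hx
      rw [Subgroup.mem_center_iff.1 hx' g, mul_inv_cancel_right]; exact hx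
    have hqsurj : Function.Surjective (QuotientGroup.mk' (zpowers z)) := QuotientGroup.mk'_surjective _
    have hcardq : Nat.card (S ⧸ zpowers z) = 2 ^ n := by
      have h1 := Subgroup.card_eq_card_quotient_mul_card_subgroup (zpowers z)
      rw [hcard, Nat.card_zpowers, hz2, pow_succ] at h1
      omega
    have hker : zpowers z ≤ commutator S := by
      rw [zpowers_le]; exact hcle hzc
    have hfin : (commutator (S ⧸ zpowers z)).index = 4 → (commutator S).index = 4 := by
      intro h
      rw [← h]
      exact (index_commutator_of_surjective (QuotientGroup.mk' (zpowers z)) hqsurj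
        (by rw [QuotientGroup.ker_mk']; exact hker)).symm
    apply hfin
    by_cases h16 : Nat.card M₁ = 8
    · -- S has order 16
      have hn : n = 3 := by
        rw [hcardM₁] at h16
        have : (2 : ℕ) ^ n = 2 ^ 3 := by rw [h16]; norm_num
        exact Nat.pow_right_injective (le_refl 2) this
      subst hn
      apply index_commutator_of_card_eight (by rw [hcardq]; norm_num)
      intro hab
      have hcz : ∀ x y : S, x * y * x⁻¹ * y⁻¹ ∈ zpowers z := by
        intro x y
        rw [← QuotientGroup.eq_one_iff]
        have h1 := hab.is_comm.comm (QuotientGroup.mk' (zpowers z) x) (QuotientGroup.mk' (zpowers z) y)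
        change QuotientGroup.mk' (zpowers z) (x * y * x⁻¹ * y⁻¹) = 1
        rw [map_mul, map_mul, map_mul, h1, map_inv, map_inv]; group
      have hzmem : ∀ x ∈ zpowers z, x = 1 ∨ x = z := by
        intro x hx
        have := H76.MaxClass.sq_eq_one_of_mem_zpowers (m := 0) (by rw [hz2]; norm_num) hx (by
          obtain ⟨j, rfl⟩ := mem_zpowers_iff.1 hx
          rw [← zpow_natCast, ← zpow_mul, mul_comm, zpow_mul, zpow_natCast, ← hz2, pow_orderOf_eq_one, one_zpow])
        simpa using this
      obtain ⟨a, b, hab'⟩ : ∃ a b : M₁, a * b ≠ b * a := by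
        by_contra h
        push Not at h
        exact hM₁na ⟨⟨h⟩⟩
      have hcent : ∀ a : S, (centralizer ({a} : Set S)).index ≤ 2 := by
        intro a
        classical
        have h1 := relIndex_centralizer_le ⊤ a {a, z * a} (by
          intro n _
          simp only [Finset.mem_insert, Finset.mem_singleton]
          rcases hzmem _ (hcz n a) with h | h
          · left; rw [mul_inv_eq_one] at h; exact h
          · right; rw [mul_inv_eq_iff_eq_mul] at h; exact h)
        rw [relIndex_top_right] at h1
        exact h1.trans Finset.card_le_two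
      -- the closure of a and b is M₁
      have hgen : closure {(a : S), (b : S)} = M₁ := by
        have hle : closure {(a : S), (b : S)} ≤ M₁ := by
          rw [closure_le]
          intro y hy
          simp only [Set.mem_insert_iff, Set.mem_singleton_iff] at hy
          rcases hy with rfl | rfl
          · exact a.2
          · exact b.2
        apply Subgroup.eq_of_le_of_card_ge hle
        rw [h16]
        set K := closure {(a : S), (b : S)} with hK
        have haK : (a : S) ∈ K := subset_closure (by simp)
        have hbK : (b : S) ∈ K := subset_closure (by simp)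
        have hKna : ¬ IsMulCommutative K := by
          intro h
          apply hab'
          apply Subtype.ext
          exact congrArg (fun x : K => (x : S)) (h.is_comm.comm (⟨a, haK⟩ : K) ⟨b, hbK⟩)
        obtain ⟨D, hDn, hDi, hDc, -⟩ := H76.PG2.exists_index_sq (hS.to_subgroup K) (fun h => hKna h.isMulCommutative)
        have hDne : D ≠ ⊥ := by
          rintro rfl
          apply hKna
          refine ⟨⟨fun x y => ?_⟩⟩
          have h1 := hDc x y
          rw [mem_bot, mul_inv_eq_one, mul_inv_eq_iff_eq_mul] at h1
          exact h1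
        rw [← Subgroup.one_lt_card_iff_ne_bot] at hDne
        have h1 := D.card_mul_index
        rw [hDi] at h1
        omega
      -- centralizer of M₁ is in M₁
      have hM₁8' : (commutator M₁).index = 4 := hM₁c
      have hZM₁ := card_center_of_card_eight h16 hM₁na
      have hCM₁ : ∀ x : S, (∀ y ∈ M₁, y * x = x * y) → x ∈ M₁ := by
        intro x hx
        by_contra hxM
        obtain ⟨D, hDn, hDi, hDc, hDs⟩ := H76.PG2.exists_index_sq (hS.to_subgroup M₁) (fun h => hM₁na h.isMulCommutative)
        have hDne : D ≠ ⊥ := by
          rintro rfl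
          apply hM₁na
          refine ⟨⟨fun x y => ?_⟩⟩
          have h1 := hDc x y
          rw [mem_bot, mul_inv_eq_one, mul_inv_eq_iff_eq_mul] at h1
          exact h1
        have hZD := H76.PG.center_le_of_normal (hS.to_subgroup M₁) hZM₁ D hDne
        have hx2M : x ^ 2 ∈ M₁ := Subgroup.sq_mem_of_index_two hM₁i x
        have h1 := relIndex_double hr (D.map M₁.subtype) M₁ (map_subtype_le D) (by
          intro u hu v hv
          exact ⟨_, hDc ⟨u, hu⟩ ⟨v, hv⟩, rfl⟩) (by
          intro u hu
          exact ⟨_, hDs ⟨u, hu⟩, rfl⟩) x hxM hx (by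
          refine ⟨⟨x ^ 2, hx2M⟩, hZD ?_, rfl⟩
          rw [Subgroup.mem_center_iff]
          intro y
          apply Subtype.ext
          change (y : S) * x ^ 2 = x ^ 2 * y
          have : Commute (y : S) x := hx y y.2
          exact this.pow_right 2)
        have h2 : (D.map M₁.subtype).relIndex M₁ = D.index := by
          rw [Subgroup.relIndex, Subgroup.subgroupOf]
          rw [Subgroup.comap_map_eq_self_of_injective M₁.subtype_injective]
        rw [h2, hDi] at h1
        norm_num at h1
      -- the intersection of the centralizers of a and b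
      have hle : centralizer ({(a : S)} : Set S) ⊓ centralizer ({(b : S)} : Set S) ≤ (center M₁).map M₁.subtype := by
        rintro x ⟨hxa, hxb⟩
        have hxa' : x * a = a * x := mem_centralizer_singleton_iff.1 hxa
        have hxb' : x * b = b * x := mem_centralizer_singleton_iff.1 hxb
        have hxM : ∀ y ∈ M₁, y * x = x * y := by
          intro y hy
          rw [← hgen] at hy
          have h1 : closure {(a : S), (b : S)} ≤ centralizer ({x} : Set S) := by
            rw [closure_le]
            intro y hy
            simp only [Set.mem_insert_iff, Set.mem_singleton_iff] at hy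
            rw [SetLike.mem_coe, mem_centralizer_singleton_iff]
            rcases hy with rfl | rfl
            · exact hxa'.symm
            · exact hxb'.symm
          exact mem_centralizer_singleton_iff.1 (h1 hy)
        refine ⟨⟨x, hCM₁ x hxM⟩, ?_, rfl⟩
        rw [SetLike.mem_coe, Subgroup.mem_center_iff]
        intro y
        exact Subtype.ext (hxM y y.2)
      have h1 := Subgroup.card_le_of_le hle
      rw [Subgroup.card_map_of_injective M₁.subtype_injective, hZM₁] at h1
      have h2 : (centralizer ({(a : S)} : Set S) ⊓ centralizer ({(b : S)} : Set S)).index ≤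
          (centralizer ({(a : S)} : Set S)).index * (centralizer ({(b : S)} : Set S)).index := Subgroup.index_inf_le
      have h3 : (centralizer ({(a : S)} : Set S)).index * (centralizer ({(b : S)} : Set S)).index ≤ 2 * 2 :=
        Nat.mul_le_mul (hcent _) (hcent _)
      have h4 := (centralizer ({(a : S)} : Set S) ⊓ centralizer ({(b : S)} : Set S)).card_mul_index
      rw [hcard] at h4
      have h5 : Nat.card (centralizer ({(a : S)} : Set S) ⊓ centralizer ({(b : S)} : Set S) : Subgroup S) *
        (centralizer ({(a : S)} : Set S) ⊓ centralizer ({(b : S)} : Set S)).index ≤ 2 * 4 :=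
        Nat.mul_le_mul h1 (h2.trans h3)
      rw [h4] at h5
      norm_num at h5
    · -- use induction in S / ⟨z⟩
      have hzM₁ : zpowers z ≤ M₁ := by
        rw [zpowers_le]
        exact (map_subtype_le (commutator M₁)) hzc
      apply ih (S ⧸ zpowers z) hcardq (H76.SecRank.quotient hr (zpowers z)) (M₁.map (QuotientGroup.mk' (zpowers z)))
      · rw [← hM₁c]
        apply index_commutator_of_surjective ((QuotientGroup.mk' (zpowers z)).subgroupMap M₁)
          (MonoidHom.subgroupMap_surjective _ _)
        intro x hx
        have h1 : QuotientGroup.mk' (zpowers z) (x : S) = 1 := congrArg Subtype.val (MonoidHom.mem_ker.1 hx)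
        have h2 : (x : S) ∈ zpowers z := (QuotientGroup.eq_one_iff _).1 h1
        obtain ⟨y, hy, hyx⟩ := (zpowers_le.2 hzc) h2
        have : y = x := Subtype.ext hyx
        rw [← this]; exact hy
      · have h1 := relIndex_ker M₁ (QuotientGroup.mk' (zpowers z))
        rw [QuotientGroup.ker_mk'] at h1
        have h2 := relIndex_mul_relIndex ⊥ (zpowers z) M₁ bot_le hzM₁
        rw [relIndex_bot_left, relIndex_bot_left, Nat.card_zpowers, hz2, h1, hcardM₁] at h2
        rw [hcardM₁] at hM₁8 h16
        have h3 : n ≠ 3 := by rintro rfl; norm_num at h16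
        have h4 : 3 ≤ n := by
          by_contra h
          push Not at h
          interval_cases n <;> norm_num at hM₁8
        have h5 : 2 ^ 4 ≤ 2 ^ n := Nat.pow_le_pow_right (by norm_num) (by omega)
        omega

end H76.SecRank2
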