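import Mathlib
import Cfsg.Prelude.Def_CaseTheorems
import Cfsg.Prelude.Def_OddOrderLocal
import Cfsg.Agent.Lib.H76.SecRank2

set_option autoImplicit false

/-!
Finite `2`-groups of sectional rank at most two are metacyclic.
-/

namespace H76.Metacyclic

open Subgroup Cfsg

variable {S : Type*} [Group S]

theorem coatom_comm_pow {p : ℕ} [Fact p.Prime] [Finite S] (hS : IsPGroup p S) (M : Subgroup S) (hM : IsCoatom M) :
    (∀ x y : S, x * y * x⁻¹ * y⁻¹ ∈ M) ∧ ∀ x : S, x ^ p ∈ M := by
  obtain ⟨hMn, hMi⟩ := H76.PG2.coatom_normal_index hS M hM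
  have hcyc : IsCyclic (S ⧸ M) := isCyclic_of_prime_card (p := p) (by rw [← Subgroup.index_eq_card, hMi])
  constructor
  · intro x y
    rw [← QuotientGroup.eq_one_iff]
    have h1 := hcyc.isMulCommutative.is_comm.comm (QuotientGroup.mk' M x) (QuotientGroup.mk' M y)
    change QuotientGroup.mk' M (x * y * x⁻¹ * y⁻¹) = 1
    rw [map_mul, map_mul, map_mul, h1, map_inv, map_inv]; group
  · intro x
    rw [← QuotientGroup.eq_one_iff]
    change QuotientGroup.mk' M (x ^ p) = 1
    rw [map_pow, ← hMi, Subgroup.index_eq_card]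
    exact pow_card_eq_one'

theorem mem_frattini_iff (x : S) : x ∈ frattini S ↔ ∀ M : Subgroup S, IsCoatom M → x ∈ M := by
  constructor
  · intro hx M hM
    exact frattini_le_coatom hM hx
  · intro h
    rw [frattini, Order.radical]
    rw [Subgroup.mem_iInf]
    intro M
    rw [Subgroup.mem_iInf]
    intro hM
    exact h M hM

theorem comm_mem_frattini {p : ℕ} [Fact p.Prime] [Finite S] (hS : IsPGroup p S) (x y : S) :
    x * y * x⁻¹ * y⁻¹ ∈ frattini S := by
  rw [mem_frattini_iff]
  intro M hM
  exact (coatom_comm_pow hS M hM).1 x y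

theorem pow_mem_frattini {p : ℕ} [Fact p.Prime] [Finite S] (hS : IsPGroup p S) (x : S) : x ^ p ∈ frattini S := by
  rw [mem_frattini_iff]
  intro M hM
  exact (coatom_comm_pow hS M hM).2 x

/-- generating pair from an element outside a subgroup `Q` of index at most four inside the Frattini subgroup. -/
theorem exists_generating_pair [Finite S] (Q : Subgroup S) (hQ : Q ≤ frattini S) (hi : Q.index ≤ 4) (x : S)
    (hx : x ∉ Q) : ∃ y : S, zpowers x ⊔ zpowers y = ⊤ := by
  have hK1 : Q < zpowers x ⊔ Q := by
    refine lt_of_le_of_ne le_sup_right ?_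
    intro h
    apply hx
    rw [h]
    exact mem_sup_left (mem_zpowers x)
  by_cases h1 : zpowers x ⊔ Q = ⊤
  · refine ⟨1, ?_⟩
    rw [zpowers_one_eq_bot, sup_bot_eq]
    exact frattini_nongenerating (le_antisymm le_top (h1 ▸ sup_le_sup_left hQ _))
  · obtain ⟨y, hy⟩ : ∃ y : S, y ∉ zpowers x ⊔ Q := by
      by_contra h
      push Not at h
      exact h1 ((Subgroup.eq_top_iff' _).2 h)
    refine ⟨y, ?_⟩
    have hK2 : zpowers x ⊔ Q < zpowers x ⊔ zpowers y ⊔ Q := by
      refine lt_of_le_of_ne (sup_le_sup_right le_sup_left _) ?_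
      intro h
      apply hy
      rw [h]
      exact mem_sup_left (mem_sup_right (mem_zpowers y))
    have h2 := relIndex_mul_index hK1.le
    have h3 := relIndex_mul_index hK2.le
    have h4 : Q.relIndex (zpowers x ⊔ Q) ≠ 1 := by
      rw [Ne, relIndex_eq_one]; exact fun h => hK1.not_ge h
    have h4' : Q.relIndex (zpowers x ⊔ Q) ≠ 0 := Subgroup.index_ne_zero_of_finite
    have h5 : (zpowers x ⊔ Q).relIndex (zpowers x ⊔ zpowers y ⊔ Q) ≠ 1 := by
      rw [Ne, relIndex_eq_one]; exact fun h => hK2.not_ge h
    have h5' : (zpowers x ⊔ Q).relIndex (zpowers x ⊔ zpowers y ⊔ Q) ≠ 0 := Subgroup.index_ne_zero_of_finite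
    have h6 : (zpowers x ⊔ zpowers y ⊔ Q).index ≠ 0 := Subgroup.index_ne_zero_of_finite
    have h7 : zpowers x ⊔ zpowers y ⊔ Q = ⊤ := by
      rw [← Subgroup.index_eq_one]
      by_contra h8
      have h9 : 2 * (2 * 2) ≤ Q.relIndex (zpowers x ⊔ Q) *
        ((zpowers x ⊔ Q).relIndex (zpowers x ⊔ zpowers y ⊔ Q) * (zpowers x ⊔ zpowers y ⊔ Q).index) :=
        Nat.mul_le_mul (by omega) (Nat.mul_le_mul (by omega) (by omega))
      rw [h3, h2] at h9
      omega
    exact frattini_nongenerating (le_antisymm le_top (h7 ▸ sup_le_sup_left hQ _))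

/-- If the commutator subgroup is inside `zpowers x` and `S` is generated by `x` and `y` then `S` is metacyclic. -/
theorem metacyclic_of_pair (x y : S) (h : zpowers x ⊔ zpowers y = ⊤) (hc : commutator S ≤ zpowers x) :
    IsMetacyclic S := by
  have hn : (zpowers x).Normal := by
    constructor
    intro n hn g
    have h1 := hc (H76.SecRank2.comm_mem g n)
    have h2 : g * n * g⁻¹ = (g * n * g⁻¹ * n⁻¹) * n := by group
    rw [h2]; exact mul_mem h1 hn
  refine ⟨zpowers x, hn, inferInstance, ?_⟩
  refine ⟨QuotientGroup.mk' _ y, fun q => ?_⟩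
  obtain ⟨g, rfl⟩ := QuotientGroup.mk'_surjective _ q
  have hg : g ∈ zpowers x ⊔ zpowers y := by rw [h]; trivial
  obtain ⟨u, hu, v, hv, rfl⟩ := Subgroup.mem_sup_of_normal_left.1 hg
  obtain ⟨i, rfl⟩ := mem_zpowers_iff.1 hv
  refine ⟨i, ?_⟩
  rw [map_mul, map_zpow]
  have : QuotientGroup.mk' (zpowers x) u = 1 := (QuotientGroup.eq_one_iff u).2 hu
  rw [this, one_mul]

theorem normal_zpowers_of_central (z : S) (hz : ∀ g : S, g * z = z * g) : (zpowers z).Normal := by
  constructor
  intro x hx g
  obtain ⟨i, rfl⟩ := mem_zpowers_iff.1 hx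
  have : Commute g z := hz g
  rw [(this.zpow_right i).eq, mul_inv_cancel_right]; exact hx

theorem orderOf_sq_of_two_pow {x : S} {k : ℕ} (hx : orderOf x = 2 ^ (k + 1)) : orderOf (x ^ 2) = 2 ^ k := by
  rw [orderOf_pow' _ (by norm_num), hx, pow_succ, Nat.gcd_eq_right (Dvd.intro_left _ rfl),
    Nat.mul_div_cancel _ (by norm_num)]

theorem cyclic_commutator_case (h2 : IsPGroup 2 S) [Finite S] (hr : SectionalPRankLE 2 2 S) (w : S) (hw2 : orderOf w = 2)
    (hw : commutator S = zpowers w) (hwc : w ∈ center S) : IsMetacyclic S := by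
  have hwsq : w ^ 2 = 1 := by rw [← hw2, pow_orderOf_eq_one]
  have hw1 : w ≠ 1 := by intro h; rw [h, orderOf_one] at hw2; norm_num at hw2
  have hmem : ∀ x ∈ commutator S, x = 1 ∨ x = w := by
    intro x hx
    rw [hw] at hx
    have := H76.MaxClass.sq_eq_one_of_mem_zpowers (m := 0) (by rw [hw2]; norm_num) hx (by
      obtain ⟨j, rfl⟩ := mem_zpowers_iff.1 hx
      rw [← zpow_natCast, ← zpow_mul, mul_comm, zpow_mul, zpow_natCast, hwsq, one_zpow])
    simpa using this
  have hwcomm : ∀ g : S, g * w = w * g := fun g => Subgroup.mem_center_iff.1 hwc g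
  have hnc : ¬ IsCyclic S := by
    intro h
    have h1 : commutator S = ⊥ := by
      rw [eq_bot_iff]
      apply H76.SecRank2.commutator_le_of_forall
      intro x y
      rw [mem_bot, h.isMulCommutative.is_comm.comm x y]; group
    rw [hw, zpowers_eq_bot] at h1
    exact hw1 h1
  let f : S →* Abelianization S := (powMonoidHom 2).comp Abelianization.of
  have hf : ∀ x, f x = Abelianization.of x ^ 2 := fun _ => rfl
  let Q : Subgroup S := f.range.comap Abelianization.of
  have hofker : ∀ x : S, Abelianization.of x = 1 ↔ x ∈ commutator S := by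
    intro x
    rw [← MonoidHom.mem_ker, Abelianization.ker_of]
  have hQmem : ∀ x ∈ Q, ∃ u e : S, e ∈ commutator S ∧ x = e * u ^ 2 := by
    rintro x ⟨u, hu⟩
    refine ⟨u, x * (u ^ 2)⁻¹, ?_, by group⟩
    rw [← hofker, map_mul, map_inv, map_pow, ← hf, hu, mul_inv_cancel]
  have hQsq : ∀ x : S, x ^ 2 ∈ Q := fun x => ⟨x, by rw [hf, map_pow]⟩
  have hQc : ∀ x y : S, x * y * x⁻¹ * y⁻¹ ∈ Q := by
    intro x y
    refine ⟨1, ?_⟩
    rw [map_one, eq_comm, hofker]
    exact H76.SecRank2.comm_mem x y
  have hQf : Q ≤ frattini S := by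
    intro x hx
    obtain ⟨u, e, he, rfl⟩ := hQmem x hx
    refine mul_mem ?_ (pow_mem_frattini h2 u)
    exact (H76.SecRank2.commutator_le_of_forall (frattini S) (comm_mem_frattini h2)) he
  have hQi : Q.index ≤ 4 := by
    have := H76.SecRank.relIndex_le hr Q ⊤ le_top (fun x _ y _ => hQc x y) (fun x _ => hQsq x)
    rwa [relIndex_top_right] at this
  have hQi' : 4 ≤ Q.index := by
    obtain ⟨D, -, hDi, hDc, hDs⟩ := H76.PG2.exists_index_sq h2 hnc
    have h1 : Q ≤ D := by
      intro x hx
      obtain ⟨u, e, he, rfl⟩ := hQmem x hx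
      exact mul_mem ((H76.SecRank2.commutator_le_of_forall D hDc) he) (hDs u)
    have h3 := Subgroup.index_dvd_of_le h1
    rw [hDi] at h3
    exact Nat.le_of_dvd (Nat.pos_of_ne_zero Subgroup.index_ne_zero_of_finite) h3
  have hY : 8 ≤ Nat.card f.ker := by
    have h1 : Nat.card f.ker * Nat.card f.range = Nat.card S := by
      rw [← f.ker.card_mul_index, Subgroup.index_ker]
    have h3 : Q.index = f.range.index := Subgroup.index_comap_of_surjective _ (by
      intro x
      induction x using QuotientGroup.induction_on with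
      | H z => exact ⟨z, rfl⟩)
    have h4 := f.range.card_mul_index
    have h5 : Nat.card (commutator S) * Nat.card (Abelianization S) = Nat.card S := by
      have := (commutator S).card_mul_index
      rw [← this]; rfl
    rw [hw, Nat.card_zpowers, hw2] at h5
    have h6 : 0 < Nat.card f.range := Nat.card_pos
    have h7 : Nat.card f.ker * Nat.card f.range = (2 * Q.index) * Nat.card f.range := by
      rw [h1, ← h5, ← h4, h3]; ring
    have h8 := Nat.eq_of_mul_eq_mul_right h6 h7
    omega
  obtain ⟨y, hy⟩ : ∃ y : S, y ^ 2 = w := by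
    by_contra hcon
    push Not at hcon
    have hYsq : ∀ y ∈ f.ker, y ^ 2 = 1 := by
      intro y hy
      rw [MonoidHom.mem_ker, hf, ← map_pow, hofker] at hy
      exact (hmem _ hy).resolve_right (hcon y)
    have h1 := H76.SecRank.relIndex_le hr ⊥ f.ker bot_le (by
      intro x hx y hy
      have e1 : x⁻¹ = x := by rw [inv_eq_iff_mul_eq_one, ← sq, hYsq x hx]
      have e2 : y⁻¹ = y := by rw [inv_eq_iff_mul_eq_one, ← sq, hYsq y hy]
      have e3 := hYsq _ (mul_mem hx hy)
      rw [mem_bot, e1, e2, mul_assoc (x * y), ← sq]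
      exact e3) (by
      intro x hx
      rw [mem_bot]; exact hYsq x hx)
    rw [relIndex_bot_left] at h1
    omega
  have hy4 : orderOf y = 4 := by
    have h1 : orderOf y = 2 ^ (1 + 1) := by
      apply orderOf_eq_prime_pow
      · rw [pow_one, hy]; exact hw1
      · rw [pow_succ, pow_one, pow_mul, hy, hwsq]
    rw [h1]; norm_num
  -- element of maximal order
  let X : Set S := {x | w ∈ zpowers x ∧ 4 ≤ orderOf x}
  obtain ⟨x, hxX, hxmax⟩ := Set.exists_max_image X orderOf (Set.toFinite X)
    ⟨y, by rw [← hy]; exact pow_mem (mem_zpowers y) 2, hy4.ge⟩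
  have hxQ : x ∉ Q := by
    intro hxQ
    obtain ⟨u, e, he, hxe⟩ := hQmem x hxQ
    have he2 : e ^ 2 = 1 := by
      rcases hmem e he with h | h
      · rw [h, one_pow]
      · rw [h, hwsq]
    have hec : Commute e (u ^ 2) := by
      rcases hmem e he with h | h
      · rw [h]; exact Commute.one_left _
      · rw [h]; exact (hwcomm _).symm
    have hx2 : x ^ 2 = u ^ 4 := by
      rw [hxe, hec.mul_pow, he2, one_mul, ← pow_mul]
    obtain ⟨k, hk⟩ := h2 x
    obtain ⟨k, -, hk⟩ := (Nat.dvd_prime_pow Nat.prime_two).1 (orderOf_dvd_of_pow_eq_one hk)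
    obtain ⟨m, hm⟩ := h2 u
    obtain ⟨m, -, hm⟩ := (Nat.dvd_prime_pow Nat.prime_two).1 (orderOf_dvd_of_pow_eq_one hm)
    have hk2 : 2 ≤ k := by
      by_contra h
      push Not at h
      have h1 := hxX.2
      rw [hk] at h1
      interval_cases k <;> norm_num at h1
    obtain ⟨l, rfl⟩ : ∃ l, k = l + 1 + 1 := ⟨k - 2, by omega⟩
    have hox2 : orderOf (x ^ 2) = 2 ^ (l + 1) := orderOf_sq_of_two_pow hk
    have hu4 : u ^ 4 ≠ 1 := by
      intro h
      rw [hx2, h, orderOf_one] at hox2
      have : 1 < 2 ^ (l + 1) := Nat.one_lt_two_pow (by omega)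
      omega
    have hm3 : 3 ≤ m := by
      by_contra h
      push Not at h
      apply hu4
      rw [← orderOf_dvd_iff_pow_eq_one, hm]
      have : (4 : ℕ) = 2 ^ 2 := by norm_num
      rw [this]
      exact pow_dvd_pow 2 (by omega)
    obtain ⟨r, rfl⟩ : ∃ r, m = r + 1 + 1 + 1 := ⟨m - 3, by omega⟩
    have hou : orderOf (u ^ 4) = 2 ^ (r + 1) := by
      have h1 : u ^ 4 = (u ^ 2) ^ 2 := by rw [← pow_mul]
      rw [h1]
      exact orderOf_sq_of_two_pow (orderOf_sq_of_two_pow hm)
    have hrl : r = l := by
      rw [← hx2, hox2] at hou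
      have := Nat.pow_right_injective (le_refl 2) hou
      omega
    have hwu : w ∈ zpowers u := by
      obtain ⟨j, hj⟩ := mem_zpowers_iff.1 hxX.1
      have h1 : x ^ (j * 2) = 1 := by rw [zpow_mul, hj]; exact_mod_cast hwsq
      have h3 := orderOf_dvd_iff_zpow_eq_one.2 h1
      rw [hk] at h3
      obtain ⟨c, hc⟩ := h3
      have h4 : j = 2 * (2 ^ l * c) := by
        push_cast at hc
        have : j * 2 = (2 * (2 ^ l * c)) * 2 := by rw [hc]; ring
        linarith
      rw [← hj, h4, zpow_mul]
      have h5 : x ^ (2 : ℤ) = u ^ 4 := by rw [← hx2]; exact_mod_cast rfl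
      rw [h5]
      exact zpow_mem (pow_mem (mem_zpowers u) 4) _
    have h4u : 4 ≤ orderOf u := by
      rw [hm]
      have : 1 ≤ 2 ^ (r + 1) := Nat.one_le_two_pow
      have h5 : 2 ^ (r + 1 + 1 + 1) = 4 * 2 ^ (r + 1) := by ring
      omega
    have h5 := hxmax u ⟨hwu, h4u⟩
    rw [hm, hk, hrl] at h5
    have h6 : 2 ^ (l + 1 + 1) < 2 ^ (l + 1 + 1 + 1) := Nat.pow_lt_pow_right (by norm_num) (by omega)
    omega
  obtain ⟨v, hv⟩ := exists_generating_pair Q hQf hQi x hxQ
  exact metacyclic_of_pair x v hv (by rw [hw, zpowers_le]; exact hxX.1)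

theorem metacyclic_of_rank_two : ∀ (n : ℕ) (S : Type*) [Group S] [Finite S], Nat.card S = 2 ^ n →
    SectionalPRankLE 2 2 S → IsMetacyclic S := by
  intro n
  induction n with
  | zero =>
    intro S _ _ hcard _
    rw [pow_zero, Nat.card_eq_one_iff_unique] at hcard
    have := hcard.1
    refine ⟨⊥, inferInstance, inferInstance, ?_⟩
    have : Subsingleton (S ⧸ (⊥ : Subgroup S)) := by
      rw [← Nat.card_eq_one_iff_unique.trans (and_iff_left ⟨1⟩), ← Subgroup.index_eq_card, Subgroup.index_bot]
      exact Nat.card_eq_one_iff_unique.2 hcard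
    exact isCyclic_of_subsingleton
  | succ n ih =>
    intro S _ _ hcard hr
    have hS : IsPGroup 2 S := IsPGroup.of_card hcard
    haveI hnt : Nontrivial S := by
      rw [← Finite.one_lt_card_iff_nontrivial, hcard]
      exact Nat.one_lt_two_pow (by omega)
    -- a generating pair
    obtain ⟨a, b, hab⟩ : ∃ a b : S, zpowers a ⊔ zpowers b = ⊤ := by
      have hf : frattini S ≠ ⊤ := by
        intro h
        have := frattini_nongenerating (G := S) (K := ⊥) (by rw [h, bot_sup_eq])
        exact bot_ne_top this
      obtain ⟨a, ha⟩ : ∃ a : S, a ∉ frattini S := by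
        by_contra h
        push Not at h
        exact hf ((Subgroup.eq_top_iff' _).2 h)
      have hi : (frattini S).index ≤ 4 := by
        have := H76.SecRank.relIndex_le hr (frattini S) ⊤ le_top (fun x _ y _ => comm_mem_frattini hS x y)
          (fun x _ => pow_mem_frattini hS x)
        rwa [relIndex_top_right] at this
      obtain ⟨b, hb⟩ := exists_generating_pair (frattini S) le_rfl hi a ha
      exact ⟨a, b, hb⟩
    have hgen : ∀ L : Subgroup S, a ∈ L → b ∈ L → L = ⊤ := by
      intro L ha hb
      rw [eq_top_iff, ← hab, sup_le_iff, zpowers_le, zpowers_le]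
      exact ⟨ha, hb⟩
    let R : Subgroup S := Subgroup.normalClosure ({x | ∃ d ∈ commutator S, x = d ^ 2} ∪
      {x | ∃ d ∈ commutator S, ∃ g : S, x = d * g * d⁻¹ * g⁻¹})
    by_cases hR : R = ⊥
    · have hRsq : ∀ d ∈ commutator S, d ^ 2 = 1 := by
        intro d hd
        have : d ^ 2 ∈ R := subset_normalClosure (Or.inl ⟨d, hd, rfl⟩)
        rwa [hR, mem_bot] at this
      have hRc : ∀ d ∈ commutator S, ∀ g : S, d * g = g * d := by
        intro d hd g
        have : d * g * d⁻¹ * g⁻¹ ∈ R := subset_normalClosure (Or.inr ⟨d, hd, g, rfl⟩)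
        rw [hR, mem_bot, mul_inv_eq_one, mul_inv_eq_iff_eq_mul] at this
        exact this
      set w := a * b * a⁻¹ * b⁻¹ with hw
      have hwc : w ∈ commutator S := H76.SecRank2.comm_mem a b
      have hwcen : w ∈ center S := by
        rw [Subgroup.mem_center_iff]
        intro g
        exact (hRc w hwc g).symm
      have hwn : (zpowers w).Normal := by
        constructor
        intro x hx g
        have hx' : x ∈ center S := (Subgroup.zpowers_le.2 hwcen) hx
        rw [Subgroup.mem_center_iff.1 hx' g, mul_inv_cancel_right]; exact hx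
      have hcomm : commutator S = zpowers w := by
        apply le_antisymm
        · apply H76.SecRank2.commutator_le_of_forall
          have key : ∀ x y : S, QuotientGroup.mk' (zpowers w) x * QuotientGroup.mk' (zpowers w) y =
              QuotientGroup.mk' (zpowers w) y * QuotientGroup.mk' (zpowers w) x := by
            have hab' : QuotientGroup.mk' (zpowers w) a * QuotientGroup.mk' (zpowers w) b =
              QuotientGroup.mk' (zpowers w) b * QuotientGroup.mk' (zpowers w) a := by
              rw [← mul_inv_eq_iff_eq_mul, ← mul_inv_eq_one, ← map_inv, ← map_inv, ← map_mul, ← map_mul, ← map_mul]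
              exact (QuotientGroup.eq_one_iff _).2 (mem_zpowers w)
            have ha : ∀ y : S, y ∈ (centralizer {QuotientGroup.mk' (zpowers w) a}).comap (QuotientGroup.mk' (zpowers w)) := by
              intro y
              rw [hgen ((centralizer {QuotientGroup.mk' (zpowers w) a}).comap (QuotientGroup.mk' (zpowers w)))
                (by rw [mem_comap, mem_centralizer_singleton_iff])
                (by rw [mem_comap, mem_centralizer_singleton_iff]; exact hab'.symm)]
              trivial
            have hb : ∀ y : S, y ∈ (centralizer {QuotientGroup.mk' (zpowers w) b}).comap (QuotientGroup.mk' (zpowers w)) := by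
              intro y
              rw [hgen ((centralizer {QuotientGroup.mk' (zpowers w) b}).comap (QuotientGroup.mk' (zpowers w)))
                (by rw [mem_comap, mem_centralizer_singleton_iff]; exact hab')
                (by rw [mem_comap, mem_centralizer_singleton_iff])]
              trivial
            intro x y
            have hx : x ∈ (centralizer {QuotientGroup.mk' (zpowers w) y}).comap (QuotientGroup.mk' (zpowers w)) := by
              rw [hgen ((centralizer {QuotientGroup.mk' (zpowers w) y}).comap (QuotientGroup.mk' (zpowers w)))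
                (by rw [mem_comap, mem_centralizer_singleton_iff]; exact (mem_centralizer_singleton_iff.1 (ha y)).symm)
                (by rw [mem_comap, mem_centralizer_singleton_iff]; exact (mem_centralizer_singleton_iff.1 (hb y)).symm)]
              trivial
            exact mem_centralizer_singleton_iff.1 hx
          intro x y
          rw [← QuotientGroup.eq_one_iff]
          change QuotientGroup.mk' (zpowers w) (x * y * x⁻¹ * y⁻¹) = 1
          rw [map_mul, map_mul, map_mul, key, map_inv, map_inv]; group
        · rw [zpowers_le]; exact hwc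
      by_cases hw1 : w = 1
      · exact metacyclic_of_pair a b hab (by rw [hcomm, hw1, zpowers_one_eq_bot]; exact bot_le)
      · exact cyclic_commutator_case hS hr w (orderOf_eq_prime (hRsq w hwc) hw1) hcomm hwcen
    · haveI hRn : R.Normal := Subgroup.normalClosure_normal
      obtain ⟨z, hzR, hzZ, hz2⟩ := H76.PG.exists_center_of_normal hS R hR
      have hzcent : ∀ g : S, g * z = z * g := fun g => (Subgroup.mem_center_iff.1 hzZ g)
      have hzsq : z ^ 2 = 1 := by rw [← hz2]; exact pow_orderOf_eq_one z
      have hz1 : z ≠ 1 := by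
        intro h; rw [h, orderOf_one] at hz2; norm_num at hz2
      haveI hzn : (zpowers z).Normal := normal_zpowers_of_central z hzcent
      have hzmem : ∀ x ∈ zpowers z, x = 1 ∨ x = z := by
        intro x hx
        have := H76.MaxClass.sq_eq_one_of_mem_zpowers (m := 0) (by rw [hz2]; norm_num) hx (by
          obtain ⟨j, rfl⟩ := mem_zpowers_iff.1 hx
          rw [← zpow_natCast, ← zpow_mul, mul_comm, zpow_mul, zpow_natCast, hzsq, one_zpow])
        simpa using this
      have hcardq : Nat.card (S ⧸ zpowers z) = 2 ^ n := by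
        have h1 := Subgroup.card_eq_card_quotient_mul_card_subgroup (zpowers z)
        rw [hcard, Nat.card_zpowers, hz2, pow_succ] at h1
        omega
      obtain ⟨K', hK'n, hK'c, hK'q⟩ := ih (S ⧸ zpowers z) hcardq (H76.SecRank.quotient hr (zpowers z))
      let q := QuotientGroup.mk' (zpowers z)
      have hqsurj : Function.Surjective q := QuotientGroup.mk'_surjective _
      have hq1 : ∀ x : S, q x = 1 ↔ x ∈ zpowers z := fun x => QuotientGroup.eq_one_iff x
      obtain ⟨c', hc'⟩ := hK'c.exists_generator
      obtain ⟨c, hc⟩ := hqsurj c'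
      obtain ⟨s', hs'⟩ := hK'q.exists_generator
      obtain ⟨s'', hs''⟩ := QuotientGroup.mk'_surjective K' s'
      obtain ⟨s, hs⟩ := hqsurj s''
      have hKmem : ∀ k, q k ∈ K' → ∃ (i : ℤ) (e : S), (e = 1 ∨ e = z) ∧ k = c ^ i * e := by
        intro k hk
        obtain ⟨i, hi⟩ := mem_zpowers_iff.1 (hc' ⟨q k, hk⟩)
        have hi' : (c' : S ⧸ zpowers z) ^ i = q k := congrArg Subtype.val hi
        refine ⟨i, (c ^ i)⁻¹ * k, ?_, by group⟩
        apply hzmem
        rw [← hq1, map_mul, map_inv, map_zpow, hc, hi', inv_mul_cancel]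
      have hdec : ∀ g : S, ∃ m : ℤ, q ((s ^ m)⁻¹ * g) ∈ K' := by
        intro g
        obtain ⟨m, hm⟩ := mem_zpowers_iff.1 (hs' (QuotientGroup.mk' K' (q g)))
        refine ⟨m, ?_⟩
        rw [← QuotientGroup.eq_one_iff]
        change QuotientGroup.mk' K' (q ((s ^ m)⁻¹ * g)) = 1
        rw [map_mul, map_mul, map_inv, map_inv, map_zpow, map_zpow, hs, hs'', hm, inv_mul_cancel]
      have hcK : q c ∈ K' := by rw [hc]; exact c'.2
      have hzK : q z ∈ K' := by rw [(hq1 z).2 (mem_zpowers z)]; exact one_mem _
      -- a cyclic K finishes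
      have hfin : ∀ x : S, (∀ k, q k ∈ K' ↔ k ∈ zpowers x) → IsMetacyclic S := by
        intro x hx
        have hxn : (zpowers x).Normal := by
          constructor
          intro k hk g
          rw [← hx] at hk ⊢
          rw [map_mul, map_mul, map_inv]
          exact hK'n.conj_mem _ hk _
        refine ⟨zpowers x, hxn, inferInstance, ?_⟩
        refine ⟨QuotientGroup.mk' _ s, fun r => ?_⟩
        obtain ⟨g, rfl⟩ := QuotientGroup.mk'_surjective _ r
        obtain ⟨m, hm⟩ := hdec g
        rw [hx] at hm
        refine ⟨m, ?_⟩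
        have h1 : QuotientGroup.mk' (zpowers x) ((s ^ m)⁻¹ * g) = 1 := (QuotientGroup.eq_one_iff _).2 hm
        rw [map_mul, map_inv, map_zpow] at h1
        exact (inv_mul_eq_one.1 h1)
      by_cases hzc : z ∈ zpowers c
      · apply hfin c
        intro k
        constructor
        · intro hk
          obtain ⟨i, e, he, rfl⟩ := hKmem k hk
          refine mul_mem (zpow_mem (mem_zpowers c) i) ?_
          rcases he with h | h
          · rw [h]; exact one_mem _
          · rw [h]; exact hzc
        · intro hk
          obtain ⟨i, rfl⟩ := mem_zpowers_iff.1 hk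
          rw [map_zpow]; exact zpow_mem hcK i
      by_cases hc1 : c = 1
      · apply hfin z
        intro k
        constructor
        · intro hk
          obtain ⟨i, e, he, rfl⟩ := hKmem k hk
          rw [hc1, one_zpow, one_mul]
          rcases he with h | h
          · rw [h]; exact one_mem _
          · rw [h]; exact mem_zpowers z
        · intro hk
          rw [(hq1 k).2 hk]; exact one_mem _
      exfalso
      have hgen2 : ∀ L : Subgroup S, s ∈ L → c ∈ L → z ∈ L → L = ⊤ := by
        intro L hsL hcL hzL
        rw [Subgroup.eq_top_iff']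
        intro g
        obtain ⟨m, hm⟩ := hdec g
        obtain ⟨i, e, he, hk⟩ := hKmem _ hm
        have h1 : g = s ^ m * (c ^ i * e) := by rw [← hk]; group
        rw [h1]
        refine mul_mem (zpow_mem hsL m) (mul_mem (zpow_mem hcL i) ?_)
        rcases he with h | h
        · rw [h]; exact one_mem _
        · rw [h]; exact hzL
      obtain ⟨i, e, he, hi⟩ := hKmem (s * c * s⁻¹) (by
        rw [map_mul, map_mul, map_inv]; exact hK'n.conj_mem _ hcK _)
      have hecent : ∀ g : S, g * e = e * g := by
        rcases he with h | h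
        · intro g; rw [h]; simp
        · rw [h]; exact hzcent
      have hesq : e ^ 2 = 1 := by
        rcases he with h | h
        · rw [h, one_pow]
        · rw [h, hzsq]
      have hiodd : ¬ Even i := by
        rintro ⟨l, hl⟩
        obtain ⟨m, hm⟩ := hS c
        obtain ⟨m, -, hm⟩ := (Nat.dvd_prime_pow Nat.prime_two).1 (orderOf_dvd_of_pow_eq_one hm)
        have hm0 : m ≠ 0 := by
          rintro rfl
          rw [pow_zero, orderOf_eq_one_iff] at hm
          exact hc1 hm
        obtain ⟨r, rfl⟩ := Nat.exists_eq_succ_of_ne_zero hm0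
        rcases Nat.eq_zero_or_pos r with hr0 | hr0
        · subst hr0
          have hcsq : c ^ (2 : ℤ) = 1 := by
            have := pow_orderOf_eq_one c
            rw [hm] at this
            exact_mod_cast this
          have h1 : s * c * s⁻¹ = e := by
            rw [hi, hl, ← two_mul, zpow_mul, hcsq, one_zpow, one_mul]
          have h3 : c = e := by
            calc c = s⁻¹ * (s * c * s⁻¹) * s := by group
              _ = e := by rw [h1, mul_assoc, ← hecent, inv_mul_cancel_left]
          rcases he with h | h
          · exact hc1 (h3.trans h)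
          · exact hzc (by rw [← h, ← h3]; exact mem_zpowers c)
        · have h1 : c ^ (2 ^ r) ≠ 1 := by
            intro h
            have := orderOf_dvd_of_pow_eq_one h
            rw [hm] at this
            have h3 := (Nat.pow_dvd_pow_iff_le_right (by norm_num : 1 < 2)).1 this
            omega
          apply h1
          have h3 : s * c ^ (2 ^ r) * s⁻¹ = 1 := by
            have hce : Commute (c ^ i) e := hecent _
            rw [← conj_pow, hi, hce.mul_pow]
            obtain ⟨t, rfl⟩ := Nat.exists_eq_succ_of_ne_zero hr0.ne'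
            have h4 : e ^ (2 ^ (t + 1)) = 1 := by rw [pow_succ', pow_mul, hesq, one_pow]
            have h5 : (c ^ i) ^ (2 ^ (t + 1)) = 1 := by
              rw [← zpow_natCast, ← zpow_mul, hl]
              have : (l + l) * ((2 ^ (t + 1) : ℕ) : ℤ) = ((2 ^ (t + 1 + 1) : ℕ) : ℤ) * l := by push_cast; ring
              rw [this, zpow_mul, zpow_natCast, ← Nat.succ_eq_add_one (t + 1), ← hm, pow_orderOf_eq_one, one_zpow]
            change (c ^ i) ^ (2 ^ (t + 1)) * e ^ (2 ^ (t + 1)) = 1
            rw [h4, h5, one_mul]
          calc c ^ (2 ^ r) = s⁻¹ * (s * c ^ (2 ^ r) * s⁻¹) * s := by group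
            _ = 1 := by rw [h3]; group
      set d := s * c * s⁻¹ * c⁻¹ with hd
      have hd' : d = c ^ (i - 1) * e := by
        rw [hd, hi, mul_assoc, ← hecent, ← mul_assoc, zpow_sub, zpow_one]
      have hce : ∀ j : ℤ, Commute (c ^ j) e := fun j => hecent _
      have hsd : s * d * s⁻¹ = d ^ i := by
        have h1 : s * d * s⁻¹ = (s * c * s⁻¹) ^ (i - 1) * e := by
          rw [conj_zpow, hd', ← mul_assoc, mul_assoc _ e, ← hecent, ← mul_assoc]
        rw [h1, hi, (hce i).mul_zpow, hd', (hce (i - 1)).mul_zpow, ← zpow_mul, ← zpow_mul, mul_assoc,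
          ← zpow_add_one, mul_comm i, sub_add_cancel]
      have hcd : c * d = d * c := by
        rw [hd', ← mul_assoc, ← zpow_one_add, mul_assoc, ← hecent c, ← mul_assoc, ← zpow_add_one]
        congr 2; ring
      have hd2 : d ^ 2 = c ^ ((i - 1) * 2) := by
        rw [hd', (hce _).mul_pow, hesq, mul_one, zpow_mul]
        exact_mod_cast rfl
      -- normality of zpowers (d ^ j)
      have hDn : ∀ j : ℕ, (zpowers (d ^ j)).Normal := by
        intro j
        rw [← normalizer_eq_top_iff]
        apply hgen2
        · apply mem_normalizer_fintype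
          rintro _ ⟨l, rfl⟩
          refine ⟨i * l, ?_⟩
          change (d ^ j) ^ (i * l) = s * (d ^ j) ^ l * s⁻¹
          rw [← conj_zpow, ← conj_pow, hsd, zpow_mul]
          congr 1
          rw [← zpow_natCast, ← zpow_natCast, ← zpow_mul, ← zpow_mul, mul_comm]
        · apply mem_normalizer_fintype
          rintro _ ⟨l, rfl⟩
          refine ⟨l, ?_⟩
          change (d ^ j) ^ l = c * (d ^ j) ^ l * c⁻¹
          rw [eq_mul_inv_iff_mul_eq]
          have : Commute d c := hcd.symm
          exact (this.pow_left j).zpow_left l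
        · apply mem_normalizer_fintype
          rintro _ ⟨l, rfl⟩
          refine ⟨l, ?_⟩
          change (d ^ j) ^ l = z * (d ^ j) ^ l * z⁻¹
          rw [eq_mul_inv_iff_mul_eq]
          exact hzcent _
      haveI hD1 : (zpowers d).Normal := by have := hDn 1; rwa [pow_one] at this
      haveI hD2 : (zpowers (d ^ 2)).Normal := hDn 2
      have hcommD : commutator S ≤ zpowers d := by
        apply H76.SecRank2.commutator_le_of_forall
        have hsc : QuotientGroup.mk' (zpowers d) s * QuotientGroup.mk' (zpowers d) c =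
              QuotientGroup.mk' (zpowers d) c * QuotientGroup.mk' (zpowers d) s := by
          rw [← mul_inv_eq_iff_eq_mul, ← mul_inv_eq_one, ← map_inv, ← map_inv, ← map_mul, ← map_mul, ← map_mul]
          exact (QuotientGroup.eq_one_iff _).2 (mem_zpowers d)
        have hz' : ∀ y : S, QuotientGroup.mk' (zpowers d) y * QuotientGroup.mk' (zpowers d) z =
              QuotientGroup.mk' (zpowers d) z * QuotientGroup.mk' (zpowers d) y := by
          intro y
          rw [← map_mul, hzcent, map_mul]
        have hs1 : ∀ y : S, y ∈ (centralizer {QuotientGroup.mk' (zpowers d) s}).comap (QuotientGroup.mk' (zpowers d)) := by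
          intro y
          rw [hgen2 ((centralizer {QuotientGroup.mk' (zpowers d) s}).comap (QuotientGroup.mk' (zpowers d)))
            (by rw [mem_comap, mem_centralizer_singleton_iff])
            (by rw [mem_comap, mem_centralizer_singleton_iff]; exact hsc.symm)
            (by rw [mem_comap, mem_centralizer_singleton_iff]; exact (hz' s).symm)]
          trivial
        have hc1' : ∀ y : S, y ∈ (centralizer {QuotientGroup.mk' (zpowers d) c}).comap (QuotientGroup.mk' (zpowers d)) := by
          intro y
          rw [hgen2 ((centralizer {QuotientGroup.mk' (zpowers d) c}).comap (QuotientGroup.mk' (zpowers d)))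
            (by rw [mem_comap, mem_centralizer_singleton_iff]; exact hsc)
            (by rw [mem_comap, mem_centralizer_singleton_iff])
            (by rw [mem_comap, mem_centralizer_singleton_iff]; exact (hz' c).symm)]
          trivial
        intro x y
        have hx : x ∈ (centralizer {QuotientGroup.mk' (zpowers d) y}).comap (QuotientGroup.mk' (zpowers d)) := by
          rw [hgen2 ((centralizer {QuotientGroup.mk' (zpowers d) y}).comap (QuotientGroup.mk' (zpowers d)))
            (by rw [mem_comap, mem_centralizer_singleton_iff]; exact (mem_centralizer_singleton_iff.1 (hs1 y)).symm)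
            (by rw [mem_comap, mem_centralizer_singleton_iff]; exact (mem_centralizer_singleton_iff.1 (hc1' y)).symm)
            (by rw [mem_comap, mem_centralizer_singleton_iff]; exact (hz' y).symm)]
          trivial
        have key := mem_centralizer_singleton_iff.1 hx
        rw [← QuotientGroup.eq_one_iff]
        change QuotientGroup.mk' (zpowers d) (x * y * x⁻¹ * y⁻¹) = 1
        rw [map_mul, map_mul, map_mul, key, map_inv, map_inv]; group
      -- d is central modulo d ^ 2
      have hdc : ∀ g : S, QuotientGroup.mk' (zpowers (d ^ 2)) g * QuotientGroup.mk' (zpowers (d ^ 2)) d =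
          QuotientGroup.mk' (zpowers (d ^ 2)) d * QuotientGroup.mk' (zpowers (d ^ 2)) g := by
        intro g
        have hg : g ∈ (centralizer {QuotientGroup.mk' (zpowers (d ^ 2)) d}).comap (QuotientGroup.mk' (zpowers (d ^ 2))) := by
          rw [hgen2 ((centralizer {QuotientGroup.mk' (zpowers (d ^ 2)) d}).comap (QuotientGroup.mk' (zpowers (d ^ 2))))
            (by
              rw [mem_comap, mem_centralizer_singleton_iff, ← mul_inv_eq_iff_eq_mul, ← map_inv, ← map_mul, ← map_mul, hsd]
              obtain ⟨l, hl⟩ : Even (i - 1) := by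
                rcases Int.even_or_odd i with h | h
                · exact absurd h hiodd
                · exact h.sub_odd odd_one
              have h1 : d ^ i = d * (d ^ 2) ^ l := by
                have : i = 1 + 2 * l := by omega
                conv_lhs => rw [this]
                rw [zpow_add, zpow_one, zpow_mul]
                exact_mod_cast rfl
              rw [h1, map_mul]
              have h3 : QuotientGroup.mk' (zpowers (d ^ 2)) ((d ^ 2) ^ l) = 1 :=
                (QuotientGroup.eq_one_iff _).2 (zpow_mem (mem_zpowers _) l)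
              rw [h3, mul_one])
            (by
              rw [mem_comap, mem_centralizer_singleton_iff, ← map_mul, hcd, map_mul])
            (by
              rw [mem_comap, mem_centralizer_singleton_iff, ← map_mul, ← hzcent, map_mul])]
          trivial
        exact mem_centralizer_singleton_iff.1 hg
      have hRle : R ≤ zpowers (d ^ 2) := by
        apply Subgroup.normalClosure_le_normal
        rintro x (⟨δ, hδ, rfl⟩ | ⟨δ, hδ, g, rfl⟩)
        · obtain ⟨j, rfl⟩ := mem_zpowers_iff.1 (hcommD hδ)
          refine ⟨j, ?_⟩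
          change (d ^ 2) ^ j = (d ^ j) ^ 2
          rw [← zpow_natCast, ← zpow_natCast, ← zpow_mul, ← zpow_mul, mul_comm]
        · obtain ⟨j, rfl⟩ := mem_zpowers_iff.1 (hcommD hδ)
          rw [SetLike.mem_coe, ← QuotientGroup.eq_one_iff]
          change QuotientGroup.mk' (zpowers (d ^ 2)) (d ^ j * g * (d ^ j)⁻¹ * g⁻¹) = 1
          rw [map_mul, map_mul, map_mul, map_inv, map_inv, map_zpow]
          have h1 : Commute (QuotientGroup.mk' (zpowers (d ^ 2)) d) (QuotientGroup.mk' (zpowers (d ^ 2)) g) := (hdc g).symm
          rw [(h1.zpow_left j).eq]; group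
      apply hzc
      have h1 := hRle hzR
      obtain ⟨j, hj⟩ := mem_zpowers_iff.1 h1
      rw [← hj, hd2, ← zpow_mul]
      exact zpow_mem (mem_zpowers c) _

end H76.Metacyclic
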