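import Mathlib

/-!
Fixed points of elements on normal subgroups; small counting facts.
-/

set_option autoImplicit false
open Subgroup MulAction

namespace H76.FixPt

variable {G : Type*} [Group G]

/-- an element of `p`-power order acting by conjugation on a normal subgroup `A`: `|A| ≡ |C_A(x)| mod p` -/
theorem card_modEq_inf_centralizer [Finite G] (p : ℕ) [Fact p.Prime] (A : Subgroup G) [A.Normal] (x : G) {k : ℕ}
    (hx : orderOf x = p ^ k) : Nat.card A ≡ Nat.card (A ⊓ centralizer {x} : Subgroup G) [MOD p] := by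
  have hK : IsPGroup p (zpowers (ConjAct.toConjAct x)) := by
    apply IsPGroup.of_card (n := k)
    rw [Nat.card_zpowers]
    rw [← hx]
    exact orderOf_injective (ConjAct.toConjAct : G ≃* ConjAct G).toMonoidHom ConjAct.toConjAct.injective x
  have h1 := hK.card_modEq_card_fixedPoints A
  have h2 : Nat.card (fixedPoints (zpowers (ConjAct.toConjAct x)) A) = Nat.card (A ⊓ centralizer {x} : Subgroup G) := by
    refine Nat.card_congr ⟨fun a => ⟨(a : A), ?_⟩, fun a => ⟨⟨a, a.2.1⟩, ?_⟩, fun a => rfl, fun a => rfl⟩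
    · refine ⟨(a : A).2, ?_⟩
      refine mem_centralizer_singleton_iff.mpr ?_
      have h3 := a.2 ⟨ConjAct.toConjAct x, mem_zpowers _⟩
      have h4 := congrArg (fun x : A => (x : G)) h3
      simp only [Subgroup.smul_def, ConjAct.Subgroup.val_conj_smul, ConjAct.toConjAct_smul] at h4
      rw [mul_inv_eq_iff_eq_mul] at h4
      exact h4.symm
    · intro g
      obtain ⟨g, hg⟩ := g
      obtain ⟨n, rfl⟩ := mem_zpowers_iff.mp hg
      apply Subtype.ext
      simp only [Subgroup.smul_def, ConjAct.Subgroup.val_conj_smul, ← map_zpow, ConjAct.toConjAct_smul]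
      have h3 := mem_centralizer_singleton_iff.mp a.2.2
      have h4 : Commute (a : G) x := h3
      have h5 := (h4.zpow_right n).eq
      rw [← h5, mul_inv_cancel_right]
  rw [h2] at h1
  exact h1

/-- disjoint subgroups of a subgroup -/
theorem card_mul_card_le [Finite G] (A D E : Subgroup G) (hD : D ≤ A) (hE : E ≤ A) (h : D ⊓ E = ⊥) :
    Nat.card D * Nat.card E ≤ Nat.card A := by
  rw [← Nat.card_prod]
  refine Nat.card_le_card_of_injective (fun x : D × E => (⟨x.1 * x.2, mul_mem (hD x.1.2) (hE x.2.2)⟩ : A)) ?_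
  intro x y hxy
  exact mul_injective_of_disjoint (disjoint_iff.mpr h) (congrArg Subtype.val hxy)

/-- If `t` and `x⁻¹tx` have no common fixed point on the abelian normal subgroup `A`, then `|C_A(t)|² ≤ |A|`. -/
theorem card_sq_le [Finite G] (A : Subgroup G) [A.Normal] (x t : G)
    (h : ∀ a ∈ A, t * a = a * t → (x⁻¹ * t * x) * a = a * (x⁻¹ * t * x) → a = 1) :
    Nat.card (A ⊓ centralizer {t} : Subgroup G) * Nat.card (A ⊓ centralizer {t} : Subgroup G) ≤ Nat.card A := by
  have h1 : Nat.card (A ⊓ centralizer {x⁻¹ * t * x} : Subgroup G) = Nat.card (A ⊓ centralizer {t} : Subgroup G) := by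
    refine Nat.card_congr ⟨fun a => ⟨x * a * x⁻¹, ?_⟩, fun a => ⟨x⁻¹ * a * x, ?_⟩, fun a => ?_, fun a => ?_⟩
    · refine ⟨(inferInstance : A.Normal).conj_mem _ a.2.1 _, ?_⟩
      have := mem_centralizer_singleton_iff.mp a.2.2
      refine mem_centralizer_singleton_iff.mpr ?_
      calc x * ↑a * x⁻¹ * t = x * (↑a * (x⁻¹ * t * x)) * x⁻¹ := by group
        _ = _ := by rw [this]; group
    · refine ⟨?_, ?_⟩
      · have := (inferInstance : A.Normal).conj_mem _ a.2.1 x⁻¹
        simpa using this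
      have := mem_centralizer_singleton_iff.mp a.2.2
      refine mem_centralizer_singleton_iff.mpr ?_
      calc x⁻¹ * ↑a * x * (x⁻¹ * t * x) = x⁻¹ * (↑a * t) * x := by group
        _ = _ := by rw [this]; group
    · apply Subtype.ext; simp [mul_assoc]
    · apply Subtype.ext; simp [mul_assoc]
  conv_lhs => rw [← h1]
  rw [h1]
  nth_rewrite 2 [← h1]
  apply card_mul_card_le _ _ _ inf_le_left inf_le_left
  rw [eq_bot_iff]
  intro a ha
  rw [mem_bot]
  exact h a ha.1.1 (mem_centralizer_singleton_iff.mp ha.1.2).symm (mem_centralizer_singleton_iff.mp ha.2.2).symm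

/-- the map `h ↦ h⁻¹ (t h t⁻¹)` on an abelian normal subgroup -/
def commHom (A : Subgroup G) [A.Normal] (hAc : ∀ a ∈ A, ∀ b ∈ A, a * b = b * a) (t : G) : A →* A where
  toFun h := ⟨(h : G)⁻¹ * (t * h * t⁻¹), mul_mem (inv_mem h.2) ((inferInstance : A.Normal).conj_mem _ h.2 _)⟩
  map_one' := by apply Subtype.ext; simp
  map_mul' a b := by
    apply Subtype.ext
    simp only [Subgroup.coe_mul, mul_inv_rev]
    have h1 : t * (a : G) * t⁻¹ ∈ A := (inferInstance : A.Normal).conj_mem _ a.2 _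
    have h2 := hAc _ (mul_mem (inv_mem a.2) h1) _ (inv_mem b.2)
    calc (b : G)⁻¹ * (a : G)⁻¹ * (t * (a * b) * t⁻¹)
        = (b : G)⁻¹ * ((a : G)⁻¹ * (t * a * t⁻¹)) * (t * b * t⁻¹) := by group
      _ = _ := by rw [← h2]; group

theorem mem_ker_commHom (A : Subgroup G) [A.Normal] (hAc : ∀ a ∈ A, ∀ b ∈ A, a * b = b * a) (t : G) (a : A) :
    a ∈ (commHom A hAc t).ker ↔ t * a = a * t := by
  rw [MonoidHom.mem_ker, Subtype.ext_iff]
  show (a : G)⁻¹ * (t * a * t⁻¹) = 1 ↔ _
  rw [inv_mul_eq_one, eq_mul_inv_iff_mul_eq, eq_comm]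

theorem card_ker_commHom (A : Subgroup G) [A.Normal] (hAc : ∀ a ∈ A, ∀ b ∈ A, a * b = b * a) (t : G) :
    Nat.card (commHom A hAc t).ker = Nat.card (A ⊓ centralizer {t} : Subgroup G) := by
  refine Nat.card_congr ⟨fun a => ⟨(a : A), (a : A).2, ?_⟩, fun a => ⟨⟨a, a.2.1⟩, ?_⟩, fun a => rfl, fun a => rfl⟩
  · refine mem_centralizer_singleton_iff.mpr ?_
    exact ((mem_ker_commHom A hAc t a).mp a.2).symm
  · rw [mem_ker_commHom]
    exact (mem_centralizer_singleton_iff.mp a.2.2).symm

/-- `|C_A(t)| * |[A,t]| = |A|` -/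
theorem card_centralizer_mul_card_range [Finite G] (A : Subgroup G) [A.Normal] (hAc : ∀ a ∈ A, ∀ b ∈ A, a * b = b * a) (t : G) :
    Nat.card (A ⊓ centralizer {t} : Subgroup G) * Nat.card (commHom A hAc t).range = Nat.card A := by
  rw [← card_ker_commHom A hAc t, ← (commHom A hAc t).ker.card_mul_index, index_ker]

end H76.FixPt
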