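import Mathlib
import Cfsg.Prelude.Def_SolvableStructure
import Cfsg.Agent.Lib.H11.MinNonNilp2
import Cfsg.Agent.Lib.H1.Coprime2
import Cfsg.Agent.Lib.H13.Fix
import Cfsg.Agent.Lib.H56.StrC
import Cfsg.Agent.Lib.H12.Basic
import Cfsg.Agent.Lib.H65.HallHigman
import Cfsg.Agent.Lib.H3.Extraspecial

/-!
Structure of the normal Sylow subgroup of a minimal non-nilpotent group: semi-extraspecial groups.
-/

set_option autoImplicit false

open Cfsg Subgroup

namespace H76.MinNN

variable {X : Type*} [Group X] [Finite X] {p : ℕ} [hp : Fact p.Prime]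

/-- if `g v g⁻¹ v⁻¹` commutes with `g` -/
theorem pow_conj {G : Type*} [Group G] (g v : G) (h : g * (g * v * g⁻¹ * v⁻¹) = g * v * g⁻¹ * v⁻¹ * g) (n : ℕ) :
    g ^ n * v * (g ^ n)⁻¹ = (g * v * g⁻¹ * v⁻¹) ^ n * v := by
  set e := g * v * g⁻¹ * v⁻¹ with he
  have hgv : g * v * g⁻¹ = e * v := by rw [he]; group
  induction n with
  | zero => simp
  | succ n ih =>
    have hc : g * e ^ n = e ^ n * g := by
      have : Commute g e := h
      exact (this.pow_right n).eq
    calc g ^ (n + 1) * v * (g ^ (n + 1))⁻¹ = g * (g ^ n * v * (g ^ n)⁻¹) * g⁻¹ := by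
          rw [pow_succ' g n]; group
      _ = g * (e ^ n * v) * g⁻¹ := by rw [ih]
      _ = (g * e ^ n) * v * g⁻¹ := by group
      _ = e ^ n * (g * v * g⁻¹) := by rw [hc]; group
      _ = e ^ n * (e * v) := by rw [hgv]
      _ = e ^ (n + 1) * v := by rw [pow_succ]; group

/-- stability: if `[g,v]` is a `p`-element commuting with `g` and `g ^ n` commutes with `v`, `(n,p)=1`,
then `g` commutes with `v` -/
theorem comm_of_stab {G : Type*} [Group G] {q : ℕ} (g v : G)
    (h : g * (g * v * g⁻¹ * v⁻¹) = g * v * g⁻¹ * v⁻¹ * g) (n : ℕ) (hn : n.Coprime q)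
    (hgn : g ^ n * v = v * g ^ n) (k : ℕ) (hk : (g * v * g⁻¹ * v⁻¹) ^ q ^ k = 1) : g * v = v * g := by
  have h1 := pow_conj g v h n
  set e := g * v * g⁻¹ * v⁻¹ with he
  have h2 : e ^ n = 1 := by
    have : g ^ n * v * (g ^ n)⁻¹ = v := by rw [hgn]; group
    rw [this] at h1
    exact (mul_eq_right.mp h1.symm)
  have h3 : orderOf e ∣ n := orderOf_dvd_of_pow_eq_one h2
  have h4 : orderOf e ∣ q ^ k := orderOf_dvd_of_pow_eq_one hk
  have h5 : e = 1 := by
    rw [← orderOf_eq_one_iff]
    exact Nat.eq_one_of_dvd_coprimes (Nat.Coprime.pow_right k hn) h3 h4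
  have h6 : g * v * g⁻¹ * v⁻¹ = 1 := h5
  calc g * v = (g * v * g⁻¹ * v⁻¹) * v * g := by group
    _ = v * g := by rw [h6, one_mul]

/-- consequences of minimal non-nilpotency, for a nonabelian normal Sylow subgroup -/
structure Good (p : ℕ) (Q : Type*) [Group Q] : Prop where
  noncomm : center Q ≠ ⊤
  comm_mem : ∀ x y : Q, x * y * x⁻¹ * y⁻¹ ∈ center Q
  pow_mem : ∀ x : Q, x ^ p ∈ center Q
  pow_center : ∀ z ∈ center Q, z ^ p = 1
  semi : ∀ x : Q, x ∉ center Q → ∀ z ∈ center Q, ∃ g : Q, x * g * x⁻¹ * g⁻¹ = z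
  two : p = 2 → Nat.card Q = 8 → Nat.card (center Q) = 2 → ∀ u : Q, u ∉ center Q → u ^ 2 ≠ 1
  three : p = 3 → Nat.card (center Q) = 3 → Nat.card Q ≠ 27

theorem Good.of_equiv {Q Q' : Type*} [Group Q] [Group Q'] {p : ℕ} (h : Good p Q) (e : Q ≃* Q') : Good p Q' := by
  have hc : ∀ x : Q, x ∈ center Q ↔ e x ∈ center Q' := by
    intro x
    rw [mem_center_iff, mem_center_iff]
    constructor
    · intro h g
      obtain ⟨g, rfl⟩ := e.surjective g
      rw [← map_mul, ← map_mul, h]
    · intro h g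
      have := h (e g)
      rw [← map_mul, ← map_mul] at this
      exact e.injective this
  have hcard : Nat.card Q' = Nat.card Q := (Nat.card_congr e.toEquiv).symm
  have hcc : Nat.card (center Q') = Nat.card (center Q) := by
    have : (center Q).map e.toMonoidHom = center Q' := by
      ext y
      obtain ⟨x, rfl⟩ := e.surjective y
      rw [← hc x]
      constructor
      · rintro ⟨z, hz, hzx⟩
        have : z = x := e.injective hzx
        rwa [← this]
      · intro hx
        exact ⟨x, hx, rfl⟩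
    rw [← this]
    exact Nat.card_congr ((center Q).equivMapOfInjective e.toMonoidHom e.injective).toEquiv.symm
  refine ⟨?_, ?_, ?_, ?_, ?_, ?_, ?_⟩
  · intro htop
    apply h.noncomm
    rw [eq_top_iff]
    intro x _
    rw [hc, htop]; trivial
  · intro x y
    obtain ⟨x, rfl⟩ := e.surjective x
    obtain ⟨y, rfl⟩ := e.surjective y
    have := (hc _).mp (h.comm_mem x y)
    simpa using this
  · intro x
    obtain ⟨x, rfl⟩ := e.surjective x
    have := (hc _).mp (h.pow_mem x)
    simpa using this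
  · intro z hz
    obtain ⟨z, rfl⟩ := e.surjective z
    have := h.pow_center z ((hc z).mpr hz)
    rw [← map_pow, this, map_one]
  · intro x hx z hz
    obtain ⟨x, rfl⟩ := e.surjective x
    obtain ⟨z, rfl⟩ := e.surjective z
    obtain ⟨g, hg⟩ := h.semi x (fun h => hx ((hc x).mp h)) z ((hc z).mpr hz)
    refine ⟨e g, ?_⟩
    rw [← hg]; simp
  · intro h2 h8 hc2 u hu
    obtain ⟨u, rfl⟩ := e.surjective u
    have := h.two h2 (hcard ▸ h8) (hcc ▸ hc2) u (fun h => hu ((hc u).mp h))
    intro h3
    apply this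
    rw [← map_pow, map_eq_one_iff e e.injective] at h3
    exact h3
  · intro h3 hc3 h27
    exact h.three h3 (hcc ▸ hc3) (hcard ▸ h27)


theorem comm_of_sq {G : Type*} [Group G] {a b : G} (ha : a * a = 1) (hb : b * b = 1)
    (hab : (a * b) * (a * b) = 1) : a * b = b * a := by
  have h1 : (a * b)⁻¹ = a * b := inv_eq_of_mul_eq_one_right hab
  have h2 : a⁻¹ = a := inv_eq_of_mul_eq_one_right ha
  have h3 : b⁻¹ = b := inv_eq_of_mul_eq_one_right hb
  rw [← h1, mul_inv_rev, h2, h3]

theorem commute_pow_of {G : Type*} [Group G] {a b : G} (h : a * b = b * a) (n : ℕ) : a ^ n * b = b * a ^ n :=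
  ((show Commute a b from h).pow_left n).eq

omit [Finite X] in
theorem le_normalizer_of_normal_subgroup_aux {A : Subgroup X} {y : X} (hy : A = zpowers y) (P' : Subgroup X)
    [P'.Normal] : y ∈ normalizer ((P' ⊓ centralizer (A : Set X) : Subgroup X) : Set X) := by
  have h1 : A ≤ normalizer ((P' ⊓ centralizer (A : Set X) : Subgroup X) : Set X) :=
    H1.Coprime2.le_normalizer_inf (by rw [normalizer_eq_top]; exact le_top)
      (H1.Coprime2.le_normalizer_centralizer Subgroup.le_normalizer)
  apply h1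
  rw [hy]; exact mem_zpowers y

/-- the coprime action facts -/
theorem good_of_action {P A : Subgroup X} (hP : IsPGroup p P) (hPn : P.Normal)
    (hcop : (Nat.card A).Coprime (Nat.card P)) (hne : ¬ P ≤ centralizer (A : Set X))
    (hR : ∀ R : Subgroup X, R ≤ P → R ≠ P → A ≤ normalizer (R : Set X) → R ≤ centralizer (A : Set X))
    (hnc : center P ≠ ⊤) (y : X) (hy : A = zpowers y) (q : ℕ) (hq : q.Prime) (hqp : q ≠ p)
    (hqA : IsPGroup q A) (hyq : ∀ x ∈ P, y ^ q * x = x * y ^ q) : Good p P := by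
  classical
  have hp1 := hp.out
  have hAP : A ≤ normalizer (P : Set X) := by rw [normalizer_eq_top]; exact le_top
  have hAp : (Nat.card A).Coprime p := by
    have := Fact.mk hq
    obtain ⟨k, hk⟩ := IsPGroup.iff_card.mp hqA
    rw [hk]
    exact Nat.Coprime.pow_left _ ((Nat.coprime_primes hq hp1).mpr hqp)
  have hPne : P ≠ ⊥ := by
    rintro rfl
    apply hne; exact bot_le
  have hs : Group.IsSolvable P := by
    have := hP.isNilpotent
    infer_instance
  have hnt : ⁅P, A⁆ ≠ ⊥ := by
    intro h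
    rw [commutator_eq_bot_iff_le_centralizer] at h
    exact hne h
  obtain ⟨e1, e2, e3, e4, e5, e6⟩ := H65.HallHigman.minimal_action (p := p) A A P hP hAP le_rfl Subgroup.le_normalizer hAp hnt
    (by
      intro U hU hAU
      rw [commutator_eq_bot_iff_le_centralizer]
      exact hR U hU.le hU.ne hAU)
  have hsp : IsSpecial p P := by
    rcases e4 with h | h
    · exfalso
      apply hnc
      rw [eq_top_iff]
      intro x _
      rw [mem_center_iff]
      intro g
      exact Subtype.ext (h.1.1.comm g x |> congrArg Subtype.val)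
    · exact h
  -- the centre as a subgroup of X
  have hZmem : ∀ x : P, x ∈ center P → (x : X) ∈ ⁅P, P⁆ := by
    intro x hx
    rw [← e3, hsp.2.1]
    exact ⟨x, hx, rfl⟩
  have hZmem' : ∀ x : P, (x : X) ∈ ⁅P, P⁆ → x ∈ center P := by
    intro x hx
    rw [← e3, hsp.2.1] at hx
    obtain ⟨z, hz, hzx⟩ := hx
    have : z = x := Subtype.ext hzx
    rwa [← this]
  set Z : Subgroup X := ⁅P, P⁆ with hZ
  have hZP : Z ≤ P := commutator_le_left P P
  have hZne : Z ≠ P := by
    intro h
    apply hnc
    rw [eq_top_iff]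
    intro x _
    apply hZmem'
    rw [h]; exact x.2
  have hZA : Z ≤ centralizer (A : Set X) :=
    hR Z hZP hZne (H1.Coprime2.le_normalizer_commutator hAP hAP)
  have hyA : y ∈ A := by rw [hy]; exact mem_zpowers y
  have hyZ : ∀ z ∈ Z, y * z = z * y := fun z hz => mem_centralizer_iff.mp (hZA hz) y hyA
  have hZcomm : ∀ z ∈ Z, ∀ g ∈ P, g * z = z * g := by
    intro z hz g hg
    have := hZmem' ⟨z, hZP hz⟩ hz
    exact congrArg Subtype.val (mem_center_iff.mp this ⟨g, hg⟩)
  have hcomm : ∀ x ∈ P, ∀ g ∈ P, x * g * x⁻¹ * g⁻¹ ∈ Z := fun x hx g hg => commutator_mem_commutator hx hg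
  -- a proper subgroup invariant under `A` lies in `Z`
  have hirr : ∀ R : Subgroup X, R ≤ P → y ∈ normalizer (R : Set X) → (∃ x ∈ R, x ∉ Z) → R = P := by
    intro R hRP hyR ⟨x, hx, hxZ⟩
    by_contra hcon
    refine hxZ (e2 R (lt_of_le_of_ne hRP hcon) ?_ hx)
    rw [hy, zpowers_le]; exact hyR
  -- fixed points
  have hfix : ∀ x ∈ P, y * x = x * y → x ∈ Z := by
    intro x hx hyx
    by_contra hxZ
    have h1 := hirr (P ⊓ centralizer (A : Set X)) inf_le_left
      (le_normalizer_of_normal_subgroup_aux hy P) ⟨x, ⟨hx, by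
        show x ∈ centralizer (A : Set X)
        rw [mem_centralizer_iff]
        intro a ha
        rw [SetLike.mem_coe, hy] at ha
        obtain ⟨n, rfl⟩ := mem_zpowers_iff.mp ha
        exact ((show Commute y x from hyx).zpow_left n).eq⟩, hxZ⟩
    apply hne
    rw [← h1]; exact inf_le_right
  have hyord : (orderOf y).Coprime p := by
    rw [← Nat.card_zpowers, ← hy]; exact hAp
  have hfixZ : ∀ x ∈ P, y * x * y⁻¹ * x⁻¹ ∈ Z → x ∈ Z := by
    intro x hx hyx
    apply hfix x hx
    obtain ⟨k, hk⟩ := hP ⟨_, hZP hyx⟩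
    have hk' := congrArg Subtype.val hk
    exact comm_of_stab y x (hyZ _ hyx) (orderOf y) hyord (by rw [pow_orderOf_eq_one]; simp) k hk'
  have hyP : ∀ x ∈ P, y * x * y⁻¹ ∈ P := fun x hx => hPn.conj_mem x hx y
  have hcm2 : ∀ u ∈ P, ∀ v ∈ P, ∀ g ∈ P, (u * v) * g * (u * v)⁻¹ * g⁻¹ =
      (u * g * u⁻¹ * g⁻¹) * (v * g * v⁻¹ * g⁻¹) := by
    intro u hu v hv g hg
    have h1 := hZcomm _ (hcomm v hv g hg) u hu
    have h2 := hZcomm _ (hcomm v hv g hg) _ (mul_mem (mul_mem (mul_mem hu hg) (inv_mem hu)) (inv_mem hg))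
    calc (u * v) * g * (u * v)⁻¹ * g⁻¹ = (u * (v * g * v⁻¹ * g⁻¹)) * u⁻¹ * (u * g * u⁻¹ * g⁻¹) := by group
      _ = (v * g * v⁻¹ * g⁻¹) * (u * g * u⁻¹ * g⁻¹) := by rw [h1]; group
      _ = _ := h2.symm
  have hinvc : ∀ u ∈ P, ∀ g ∈ P, u⁻¹ * g * u⁻¹⁻¹ * g⁻¹ = (u * g * u⁻¹ * g⁻¹)⁻¹ := by
    intro u hu g hg
    have h1 := hcm2 u hu u⁻¹ (inv_mem hu) g hg
    have h2 : (u * u⁻¹) * g * (u * u⁻¹)⁻¹ * g⁻¹ = 1 := by group
    rw [h2] at h1
    exact eq_inv_of_mul_eq_one_right h1.symm
  have hantic : ∀ u ∈ P, ∀ g ∈ P, (u * g * u⁻¹ * g⁻¹)⁻¹ = g * u * g⁻¹ * u⁻¹ := by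
    intro u _ g _; group
  have hcard2 : Nat.card P ≡ Nat.card (center P) [MOD q] := by
    have := Fact.mk hq
    let _ : MulAction A P := MulAction.compHom P ((MulAut.conjNormal (H := P)).comp A.subtype)
    have h1 := hqA.card_modEq_card_fixedPoints P
    have h2 : MulAction.fixedPoints A P = ((center P : Subgroup P) : Set P) := by
      ext x
      constructor
      · intro hx
        have h3 : (⟨y, hyA⟩ : A) • x = x := hx ⟨y, hyA⟩
        have h4 : y * x * y⁻¹ = x := congrArg Subtype.val h3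
        apply hZmem'
        apply hfix x x.2
        calc y * x = y * x * y⁻¹ * y := by group
          _ = x * y := by rw [h4]
      · intro hx a
        have h3 := mem_centralizer_iff.mp (hZA (hZmem x hx)) a a.2
        apply Subtype.ext
        show (a : X) * x * (a : X)⁻¹ = x
        rw [h3]; group
    rw [h2] at h1
    exact h1
  refine ⟨hnc, ?_, fun x => H3.Extraspecial.pow_mem_center_of_special hsp x,
    fun z hz => H3.Extraspecial.center_pow_eq_one_of_special hsp hz, ?_, ?_, ?_⟩
  · intro x g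
    apply hZmem'
    exact hcomm x x.2 g g.2
  · -- semi
    intro x hx z hz
    have hxZ : (x : X) ∉ Z := fun h => hx (hZmem' x h)
    let M : Subgroup X :=
      { carrier := {m | ∃ g ∈ P, (x : X) * g * (x : X)⁻¹ * g⁻¹ = m}
        one_mem' := ⟨1, one_mem _, by group⟩
        mul_mem' := by
          rintro _ _ ⟨g, hg, rfl⟩ ⟨k, hk, rfl⟩
          refine ⟨g * k, mul_mem hg hk, ?_⟩
          rw [← hantic (g * k) (mul_mem hg hk) x x.2, hcm2 g hg k hk x x.2, mul_inv_rev, hantic k hk x x.2,
            hantic g hg x x.2]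
          exact hZcomm _ (hcomm x x.2 g hg) _ (hZP (hcomm x x.2 k hk))
        inv_mem' := by
          rintro _ ⟨g, hg, rfl⟩
          refine ⟨g⁻¹, inv_mem hg, ?_⟩
          rw [← hantic g⁻¹ (inv_mem hg) x x.2, hinvc g hg x x.2, inv_inv, hantic x x.2 g hg] }
    have hMZ : M ≤ Z := by
      rintro _ ⟨g, hg, rfl⟩
      exact hcomm x x.2 g hg
    let R : Subgroup X :=
      { carrier := {u | u ∈ P ∧ ∀ g ∈ P, u * g * u⁻¹ * g⁻¹ ∈ M}
        one_mem' := ⟨one_mem _, fun g _ => by simp [one_mem]⟩
        mul_mem' := by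
          rintro u v ⟨hu, hu2⟩ ⟨hv, hv2⟩
          refine ⟨mul_mem hu hv, fun g hg => ?_⟩
          rw [hcm2 u hu v hv g hg]
          exact mul_mem (hu2 g hg) (hv2 g hg)
        inv_mem' := by
          rintro u ⟨hu, hu2⟩
          refine ⟨inv_mem hu, fun g hg => ?_⟩
          rw [hinvc u hu g hg]
          exact inv_mem (hu2 g hg) }
    have hRP : R = P := by
      apply hirr R (fun u hu => hu.1)
      · apply H12.Basic.mem_normalizer_of_conj
        rintro u ⟨hu, hu2⟩
        refine ⟨hyP u hu, fun g hg => ?_⟩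
        have h1 : y⁻¹ * g * y ∈ P := by
          have := hPn.conj_mem g hg y⁻¹
          rwa [inv_inv] at this
        have h2 := hu2 _ h1
        have h3 := hyZ _ (hMZ h2)
        have h4 : y * u * y⁻¹ * g * (y * u * y⁻¹)⁻¹ * g⁻¹ =
            y * (u * (y⁻¹ * g * y) * u⁻¹ * (y⁻¹ * g * y)⁻¹) * y⁻¹ := by group
        rw [h4, h3, mul_inv_cancel_right]
        exact h2
      · refine ⟨x, ⟨x.2, fun g hg => ⟨g, hg, rfl⟩⟩, hxZ⟩
    have hZM : Z ≤ M := by
      rw [hZ, commutator_le]
      intro u hu g hg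
      have hu' : u ∈ R := by rw [hRP]; exact hu
      exact hu'.2 g hg
    obtain ⟨g, hg, hgz⟩ := hZM (hZmem z hz)
    exact ⟨⟨g, hg⟩, Subtype.ext hgz⟩
  · -- two
    intro h2 h8 hc2 u hu huu
    subst h2
    rw [h8, hc2] at hcard2
    have hq3 : q = 3 := by
      have h6 : q ∣ 8 - 2 := (Nat.modEq_iff_dvd' (by norm_num)).mp hcard2.symm
      have h7 : q ∣ 2 * 3 := by simpa using h6
      rcases hq.dvd_mul.mp h7 with h | h
      · exact absurd ((Nat.prime_dvd_prime_iff_eq hq Nat.prime_two).mp h) hqp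
      · exact (Nat.prime_dvd_prime_iff_eq hq Nat.prime_three).mp h
    subst hq3
    have huZ : (u : X) ∉ Z := fun h => hu (hZmem' u h)
    obtain ⟨a, ha⟩ : ∃ a : X, a = (u : X) := ⟨_, rfl⟩
    rw [← ha] at huZ
    have haP : a ∈ P := by rw [ha]; exact u.2
    set b := y * a * y⁻¹ with hb
    set c := y * b * y⁻¹ with hc
    have hbP : b ∈ P := hyP a haP
    have hcP : c ∈ P := hyP b hbP
    have hca : y * c * y⁻¹ = a := by
      have h1 : y * c * y⁻¹ = y ^ 3 * a * (y ^ 3)⁻¹ := by
        rw [hc, hb, pow_succ, pow_two]; simp only [mul_inv_rev, mul_assoc]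
      rw [h1, hyq a haP]; group
    have haa : a * a = 1 := by
      have := congrArg Subtype.val huu
      rw [pow_two] at this
      rw [ha]
      exact this
    have hbb : b * b = 1 := by
      have h1 : b * b = y * (a * a) * y⁻¹ := by rw [hb]; group
      rw [h1, haa]; group
    have hcc : c * c = 1 := by
      have h1 : c * c = y * (b * b) * y⁻¹ := by rw [hc]; group
      rw [h1, hbb]; group
    have hwP : a * b * c ∈ P := mul_mem (mul_mem haP hbP) hcP
    have hwZ : a * b * c ∈ Z := by
      apply hfixZ _ hwP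
      have h1 : y * (a * b * c) * y⁻¹ = b * c * a := by
        have : y * (a * b * c) * y⁻¹ = (y * a * y⁻¹) * (y * b * y⁻¹) * (y * c * y⁻¹) := by group
        rw [this, hca]
      rw [h1]
      have h2 : b * c * a * (a * b * c)⁻¹ = a⁻¹ * (a * b * c) * a⁻¹⁻¹ * (a * b * c)⁻¹ := by group
      rw [h2]
      exact hcomm _ (inv_mem haP) _ hwP
    have hab : a * b = b * a := by
      have h1 : a * b = (a * b * c) * c := by rw [mul_assoc (a * b), hcc, mul_one]
      have h2 : (a * b * c) * (a * b * c) = 1 := by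
        have h3 := H3.Extraspecial.center_pow_eq_one_of_special hsp (hZmem' ⟨_, hwP⟩ hwZ)
        have h4 := congrArg Subtype.val h3
        rw [pow_two] at h4
        exact h4
      have h5 : (a * b) * (a * b) = 1 := by
        have h6 := hZcomm _ hwZ c hcP
        calc (a * b) * (a * b) = (a * b * c) * c * ((a * b * c) * c) := by rw [← h1]
          _ = (a * b * c) * (c * (a * b * c)) * c := by group
          _ = ((a * b * c) * (a * b * c)) * (c * c) := by rw [h6]; group
          _ = 1 := by rw [h2, hcc, one_mul]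
      exact comm_of_sq haa hbb h5
    set R : Subgroup X := zpowers a ⊔ zpowers b ⊔ Z with hRdef
    have haR : a ∈ R := mem_sup_left (mem_sup_left (mem_zpowers a))
    have hbR : b ∈ R := mem_sup_left (mem_sup_right (mem_zpowers b))
    have hZR : Z ≤ R := le_sup_right
    have hcR : c ∈ R := by
      have : c = (a * b)⁻¹ * (a * b * c) := by group
      rw [this]
      exact mul_mem (inv_mem (mul_mem haR hbR)) (hZR hwZ)
    have hRP' : R ≤ P := sup_le (sup_le (by rwa [zpowers_le]) (by rwa [zpowers_le])) hZP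
    have hyR : y ∈ normalizer (R : Set X) := by
      apply H12.Basic.mem_normalizer_of_conj
      have h1 : R ≤ R.comap (MulAut.conj y).toMonoidHom := by
        refine sup_le (sup_le ?_ ?_) ?_
        · rw [zpowers_le]; exact hbR
        · rw [zpowers_le]; exact hcR
        · intro z hz
          show y * z * y⁻¹ ∈ R
          rw [hyZ z hz, mul_inv_cancel_right]
          exact hZR hz
      exact fun r hr => h1 hr
    have hRP := hirr R hRP' hyR ⟨a, haR, huZ⟩
    have hRc : R ≤ centralizer ({a} : Set X) := by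
      refine sup_le (sup_le ?_ ?_) ?_
      · rw [zpowers_le, mem_centralizer_singleton_iff]
      · rw [zpowers_le, mem_centralizer_singleton_iff]; exact hab.symm
      · intro z hz
        rw [mem_centralizer_singleton_iff]
        exact (hZcomm z hz a haP).symm
    apply hu
    rw [mem_center_iff]
    intro g
    have hg : (g : X) ∈ R := by rw [hRP]; exact g.2
    have h9 := mem_centralizer_singleton_iff.mp (hRc hg)
    rw [ha] at h9
    exact Subtype.ext h9
  · intro h3 hc3 h27
    subst h3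
    rw [h27, hc3] at hcard2
    have hq2 : q = 2 := by
      have h6 : q ∣ 27 - 3 := (Nat.modEq_iff_dvd' (by norm_num)).mp hcard2.symm
      have h7 : q ∣ 2 ^ 3 * 3 := by simpa using h6
      rcases hq.dvd_mul.mp h7 with h | h
      · exact (Nat.prime_dvd_prime_iff_eq hq Nat.prime_two).mp (hq.dvd_of_dvd_pow h)
      · exact absurd ((Nat.prime_dvd_prime_iff_eq hq Nat.prime_three).mp h) hqp
    subst hq2
    obtain ⟨x, hx, hxZ⟩ : ∃ x ∈ P, x ∉ Z := by
      by_contra hcon
      push Not at hcon
      exact hZne (le_antisymm hZP hcon)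
    have hx'P : y * x * y⁻¹ ∈ P := hyP x hx
    have hwP : x * (y * x * y⁻¹) ∈ P := mul_mem hx hx'P
    have hwZ : x * (y * x * y⁻¹) ∈ Z := by
      apply hfixZ _ hwP
      have h2 : y * (x * (y * x * y⁻¹)) * y⁻¹ * (x * (y * x * y⁻¹))⁻¹ =
          (y * x * y⁻¹) * (y ^ 2 * x * (y ^ 2)⁻¹) * (x * (y * x * y⁻¹))⁻¹ := by group
      rw [h2, hyq x hx]
      have h3 : y * x * y⁻¹ * (x * y ^ 2 * (y ^ 2)⁻¹) * (x * (y * x * y⁻¹))⁻¹ =
        (y * x * y⁻¹) * x * (y * x * y⁻¹)⁻¹ * x⁻¹ := by group
      rw [h3]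
      exact hcomm _ hx'P _ hx
    set R : Subgroup X := zpowers x ⊔ Z with hRdef
    have hxR : x ∈ R := mem_sup_left (mem_zpowers x)
    have hZR : Z ≤ R := le_sup_right
    have hRP' : R ≤ P := sup_le (by rwa [zpowers_le]) hZP
    have hyR : y ∈ normalizer (R : Set X) := by
      apply H12.Basic.mem_normalizer_of_conj
      have h1 : R ≤ R.comap (MulAut.conj y).toMonoidHom := by
        refine sup_le ?_ ?_
        · rw [zpowers_le]
          show y * x * y⁻¹ ∈ R
          have : y * x * y⁻¹ = x⁻¹ * (x * (y * x * y⁻¹)) := by group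
          rw [this]
          exact mul_mem (inv_mem hxR) (hZR hwZ)
        · intro z hz
          show y * z * y⁻¹ ∈ R
          rw [hyZ z hz, mul_inv_cancel_right]
          exact hZR hz
      exact fun r hr => h1 hr
    have hRP := hirr R hRP' hyR ⟨x, hxR, hxZ⟩
    have hRc : R ≤ centralizer ({x} : Set X) := by
      refine sup_le ?_ ?_
      · rw [zpowers_le, mem_centralizer_singleton_iff]
      · intro z hz
        rw [mem_centralizer_singleton_iff]
        exact (hZcomm z hz x hx).symm
    apply hxZ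
    apply hZmem ⟨x, hx⟩
    rw [mem_center_iff]
    intro g
    have hg : (g : X) ∈ R := by rw [hRP]; exact g.2
    exact Subtype.ext (mem_centralizer_singleton_iff.mp (hRc hg))

theorem isNilpotent_sup_of_centralize {H U : Subgroup X} (hH : Group.IsNilpotent H)
    (hU : Group.IsNilpotent U) (h : U ≤ centralizer (H : Set X)) : Group.IsNilpotent ↥(H ⊔ U) := by
  have hcomm : ∀ (x : H) (y : U), Commute (H.subtype x) (U.subtype y) := fun x y =>
    (mem_centralizer_iff.1 (h y.2) x x.2)
  have hr : (MonoidHom.noncommCoprod H.subtype U.subtype hcomm).range = H ⊔ U := by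
    rw [MonoidHom.noncommCoprod_range, Subgroup.range_subtype, Subgroup.range_subtype]
  rw [← hr]
  exact Group.nilpotent_of_surjective _
    (MonoidHom.noncommCoprod H.subtype U.subtype hcomm).rangeRestrict_surjective

theorem good_of_minimal (hX : IsMinimalNonNilpotent X) (P : Sylow p X) (hPn : (P : Subgroup X).Normal)
    (hP1 : (P : Subgroup X) ≠ ⊥) (hnc : center (P : Subgroup X) ≠ ⊤) : Good p (P : Subgroup X) := by
  have hp1 := hp.out
  obtain ⟨r, s, hr, hs, hrs, hrX, hsX, A, Q, hAc, hQn, htop⟩ := H11.MinNonNilp2.structure_nonNilpotent hX.1 hX.2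
  have := Fact.mk hr
  have := Fact.mk hs
  have hcopAQ : (Nat.card (A : Subgroup X)).Coprime (Nat.card (Q : Subgroup X)) := by
    obtain ⟨i, hi⟩ := IsPGroup.iff_card.mp A.2
    obtain ⟨j, hj⟩ := IsPGroup.iff_card.mp Q.2
    rw [hi, hj]
    exact Nat.Coprime.pow _ _ ((Nat.coprime_primes hr hs).mpr hrs)
  have hdis : (A : Subgroup X) ⊓ Q = ⊥ := H1.Coprime.inf_eq_bot_of_coprime_card hcopAQ
  have hcard : Nat.card X = Nat.card (A : Subgroup X) * Nat.card (Q : Subgroup X) := by
    have h1 := H1.Coprime.relIndex_sup_of_disjoint (A := (A : Subgroup X)) (D := (Q : Subgroup X))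
      (by rw [normalizer_eq_top]; exact le_top) hdis
    rw [sup_comm, htop, relIndex_top_right] at h1
    rw [← card_mul_index (Q : Subgroup X), h1, mul_comm]
  have hPcard : p ∣ Nat.card X := by
    obtain ⟨k, hk⟩ := IsPGroup.iff_card.mp P.2
    have hk0 : k ≠ 0 := by
      rintro rfl
      rw [pow_zero] at hk
      exact hP1 (card_eq_one.mp hk)
    exact (dvd_pow_self p hk0).trans (hk ▸ card_subgroup_dvd_card _)
  have hpor : p = s := by
    by_contra hne
    have hpr : p = r := by
      rw [hcard] at hPcard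
      rcases hp1.dvd_mul.mp hPcard with h | h
      · obtain ⟨i, hi⟩ := IsPGroup.iff_card.mp A.2
        rw [hi] at h
        exact (Nat.prime_dvd_prime_iff_eq hp1 hr).mp (hp1.dvd_of_dvd_pow h)
      · obtain ⟨i, hi⟩ := IsPGroup.iff_card.mp Q.2
        rw [hi] at h
        exact absurd ((Nat.prime_dvd_prime_iff_eq hp1 hs).mp (hp1.dvd_of_dvd_pow h)) hne
    subst hpr
    apply hnc
    have e : (A : Subgroup X) ≃* (P : Subgroup X) := A.equiv P
    have hPc : IsCyclic (P : Subgroup X) := isCyclic_of_surjective e.toMonoidHom e.surjective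
    have : IsMulCommutative (P : Subgroup X) := inferInstance
    rw [eq_top_iff]
    intro x _
    rw [mem_center_iff]
    intro g
    exact mul_comm' g x
  subst hpor
  have hQP : (Q : Subgroup X) = P := by
    have h1 := Sylow.unique_of_normal P hPn
    rw [Subsingleton.elim Q P]
  rw [hQP] at hdis hcard htop hcopAQ
  obtain ⟨⟨y, hyA⟩, hy⟩ := hAc.exists_generator
  have hAy : (A : Subgroup X) = zpowers y := by
    apply le_antisymm
    · intro x hx
      obtain ⟨n, hn⟩ := hy ⟨x, hx⟩
      exact ⟨n, congrArg Subtype.val hn⟩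
    · rw [zpowers_le]; exact hyA
  have hprop : ∀ B R : Subgroup X, B ≤ A → R ≤ P → B ≤ normalizer (R : Set X) → (B ≠ A ∨ R ≠ P) → B ⊔ R ≠ ⊤ := by
    intro B R hB hR hBR hor htop'
    have h1 : Nat.card X ≤ Nat.card B * Nat.card R := by
      have h2 : B ⊓ R = ⊥ := by
        rw [eq_bot_iff, ← hdis]; exact inf_le_inf hB hR
      have h3 := H1.Coprime.relIndex_sup_of_disjoint (A := B) (D := R) hBR h2
      rw [sup_comm, htop', relIndex_top_right] at h3
      rw [← card_mul_index R, h3, mul_comm]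
    have hB1 : Nat.card B ≤ Nat.card (A : Subgroup X) := card_le_of_le hB
    have hR1 : Nat.card R ≤ Nat.card (P : Subgroup X) := card_le_of_le hR
    have hB0 : 0 < Nat.card (A : Subgroup X) := Nat.card_pos
    have hR0 : 0 < Nat.card (P : Subgroup X) := Nat.card_pos
    rw [hcard] at h1
    rcases hor with h | h
    · have : Nat.card B < Nat.card (A : Subgroup X) := by
        by_contra hcon
        exact h (eq_of_le_of_card_ge hB (not_lt.mp hcon))
      have h4 : Nat.card B * Nat.card R ≤ Nat.card B * Nat.card (P : Subgroup X) := Nat.mul_le_mul_left _ hR1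
      have h5 : Nat.card B * Nat.card (P : Subgroup X) < Nat.card (A : Subgroup X) * Nat.card (P : Subgroup X) :=
        Nat.mul_lt_mul_of_pos_right this hR0
      omega
    · have : Nat.card R < Nat.card (P : Subgroup X) := by
        by_contra hcon
        exact h (eq_of_le_of_card_ge hR (not_lt.mp hcon))
      have h4 : Nat.card B * Nat.card R ≤ Nat.card (A : Subgroup X) * Nat.card R := Nat.mul_le_mul_right _ hB1
      have h5 : Nat.card (A : Subgroup X) * Nat.card R < Nat.card (A : Subgroup X) * Nat.card (P : Subgroup X) :=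
        Nat.mul_lt_mul_of_pos_left this hB0
      omega
  apply good_of_action (P := (P : Subgroup X)) (A := (A : Subgroup X)) (p := p) P.2 hPn hcopAQ ?_ ?_ hnc y hAy r hr hrs A.2 ?_
  · intro hPA
    -- then X is nilpotent
    apply hX.1
    have h1 : Group.IsNilpotent (A : Subgroup X) := A.2.isNilpotent
    have h2 : Group.IsNilpotent (P : Subgroup X) := P.2.isNilpotent
    have h3 := isNilpotent_sup_of_centralize h1 h2 hPA
    rw [htop] at h3
    exact Group.nilpotent_of_surjective (f := (topEquiv (G := X)).toMonoidHom) (topEquiv (G := X)).surjective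
  · intro R hR hRne hAR
    intro x hx
    rw [mem_centralizer_iff]
    intro a ha
    exact H11.MinNonNilp2.commute_of_sup_ne_top hX.2 r p hrs (A : Subgroup X) R A.2 (P.2.to_le hR)
      (hprop _ _ le_rfl hR hAR (Or.inr hRne)) ha hx
  · intro x hx
    have hB : zpowers (y ^ r) ≤ (A : Subgroup X) := by
      rw [zpowers_le]; exact pow_mem hyA r
    have hBne : zpowers (y ^ r) ≠ (A : Subgroup X) := by
      intro h
      have h1 : orderOf (y ^ r) = orderOf y := by
        rw [← Nat.card_zpowers, h, hAy, Nat.card_zpowers]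
      have h2 : r ∣ orderOf y := by
        rw [hcard] at hrX
        rw [← Nat.card_zpowers, ← hAy]
        rcases hr.dvd_mul.mp hrX with h | h
        · exact h
        · exfalso
          obtain ⟨i, hi⟩ := IsPGroup.iff_card.mp P.2
          rw [hi] at h
          exact hrs ((Nat.prime_dvd_prime_iff_eq hr hp1).mp (hr.dvd_of_dvd_pow h))
      rw [orderOf_pow_of_dvd hr.ne_zero h2] at h1
      have h3 : 0 < orderOf y := orderOf_pos y
      have h4 := Nat.div_lt_self h3 hr.one_lt
      omega
    exact H11.MinNonNilp2.commute_of_sup_ne_top hX.2 r p hrs (zpowers (y ^ r)) (P : Subgroup X) (A.2.to_le hB) P.2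
      (hprop _ _ hB le_rfl (by rw [normalizer_eq_top]; exact le_top) (Or.inl hBne)) (mem_zpowers _) hx

end H76.MinNN
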