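import Mathlib
import Cfsg.Prelude.Def_Local
import Cfsg.Agent.Lib.H76.MinNN
import Cfsg.Agent.Lib.H66.PRed
import Cfsg.Agent.Lib.H37.QuadCore
import Cfsg.Agent.Lib.H52.ThompNPC3
import Cfsg.Agent.Lib.H13.StableNormal
import Cfsg.Agent.Lib.H53.CharP
import Cfsg.Agent.Lib.H28.PLen
import Cfsg.Agent.Lib.H66.PLen

/-!
`p`-solvable groups whose Sylow subgroups are of minimal non-nilpotent type: the Sylow subgroup is normal mod `O_{p'}`.
-/

set_option autoImplicit false

open Cfsg Subgroup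

namespace H76.MinNN2

open H76.MinNN
open scoped commutatorElement

variable {G : Type*} [Group G] [Finite G] {p : ℕ} [hp : Fact p.Prime]

/-- elements centralizing `V/Z(V)` and `Z(V)` lie in `V` -/
theorem nk (hcV : centralizer (pCore p G : Set G) ≤ pCore p G) {g : G}
    (hgV : ∀ v ∈ pCore p G, g * v * g⁻¹ * v⁻¹ ∈ pCore p G ⊓ centralizer (pCore p G : Set G))
    (hgE : ∀ e ∈ pCore p G ⊓ centralizer (pCore p G : Set G), g * e = e * g) : g ∈ pCore p G := by
  set V := pCore p G with hV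
  set E := V ⊓ centralizer (V : Set G) with hE
  have hVp : IsPGroup p V := H1.Cores.isPGroup_pCore p
  let T := sectionKernel V E ⊓ centralizer (E : Set G)
  have hTn : T.Normal := by
    have : (sectionKernel V E).Normal := by unfold sectionKernel; infer_instance
    infer_instance
  have hTp : IsPGroup p T := by
    apply H53.CharP.isPGroup_of_no_pprime
    rintro t ⟨ht1, ht2⟩ hto
    have ht1' := H13.StableNormal.mem_sectionKernel.mp ht1
    have htV : t ∈ V := by
      apply hcV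
      rw [mem_centralizer_iff]
      intro v hv
      have h1 : t * v * t⁻¹ * v⁻¹ ∈ E := by
        have h2 := ht1' v hv
        rw [commutatorElement_def] at h2
        have h3 : t * v * t⁻¹ * v⁻¹ = (v * t * v⁻¹ * t⁻¹)⁻¹ := by group
        rw [h3]; exact inv_mem h2
      obtain ⟨k, hk⟩ := hVp ⟨_, h1.1⟩
      exact (comm_of_stab t v (mem_centralizer_iff.mp ht2 _ h1).symm (orderOf t) hto
        (by rw [pow_orderOf_eq_one]; simp) k (congrArg Subtype.val hk)).symm
    obtain ⟨k, hk⟩ := hVp ⟨t, htV⟩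
    have hk' : t ^ p ^ k = 1 := congrArg Subtype.val hk
    rw [← orderOf_eq_one_iff]
    exact Nat.eq_one_of_dvd_coprimes (Nat.Coprime.pow_right k hto) dvd_rfl (orderOf_dvd_of_pow_eq_one hk')
  have hTV : T ≤ V := H1.Cores.le_pCore hTn hTp
  apply hTV
  refine ⟨?_, ?_⟩
  · apply H13.StableNormal.mem_sectionKernel.mpr
    intro v hv
    have h3 : ⁅v, g⁆ = (g * v * g⁻¹ * v⁻¹)⁻¹ := by rw [commutatorElement_def]; group
    rw [h3]; exact inv_mem (hgV v hv)
  · show g ∈ centralizer (E : Set G)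
    rw [mem_centralizer_iff]
    intro e he
    exact (hgE e he).symm

theorem stab (hcV : centralizer (pCore p G : Set G) ≤ pCore p G) {g : G} {n : ℕ} (hn : n.Coprime p)
    (hgn : g ^ n ∈ pCore p G)
    (hgV : ∀ v ∈ pCore p G, g * v * g⁻¹ * v⁻¹ ∈ pCore p G ⊓ centralizer (pCore p G : Set G))
    (hst : ∀ e ∈ pCore p G ⊓ centralizer (pCore p G : Set G),
      g * (g * e * g⁻¹ * e⁻¹) = (g * e * g⁻¹ * e⁻¹) * g) : g ∈ pCore p G := by
  have hVp : IsPGroup p (pCore p G) := H1.Cores.isPGroup_pCore p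
  apply nk hcV hgV
  intro e he
  have h1 := hgV e he.1
  obtain ⟨k, hk⟩ := hVp ⟨_, h1.1⟩
  have he2 := mem_centralizer_iff.mp he.2 _ hgn
  exact comm_of_stab g e (hst e he) n hn he2 k (congrArg Subtype.val hk)

/-- the configuration supplied by a hyperplane -/
theorem exists_config (hG : IsPSolvable p G) (Q : Subgroup G) (hQ : IsPGroup p Q) (hVQ : pCore p G ≤ Q)
    (hQV : ¬ Q ≤ pCore p G) (hcomm : ∀ x ∈ Q, ∀ g ∈ Q, x * g * x⁻¹ * g⁻¹ ∈ pCore p G)
    (hpow : ∀ x ∈ Q, x ^ p ∈ pCore p G) :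
    ∃ (R B : Subgroup G) (a x : G), R.Normal ∧ (∀ g ∈ R, ∃ n : ℕ, n.Coprime p ∧ g ^ n ∈ pCore p G) ∧
      pCore p G ≤ B ∧ B ≤ Q ∧ a ∈ Q ∧ Q ≤ B ⊔ zpowers a ∧ x ∈ R ∧
      (∀ b ∈ B, x * b * x⁻¹ * b⁻¹ ∈ pCore p G) ∧ x * a * x⁻¹ * a⁻¹ ∉ pCore p G ∧
      (pCore p G).relIndex Q ≤ p * (pCore p G).relIndex B := by
  set V := pCore p G with hV
  set π := QuotientGroup.mk' V with hπ
  have hker : ∀ g : G, π g = 1 ↔ g ∈ V := fun g => QuotientGroup.eq_one_iff g
  have hπs : Function.Surjective π := QuotientGroup.mk'_surjective V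
  have hcore : pCore p (G ⧸ V) = ⊥ := H1.Cores.pCore_quotient_pCore p
  have hps := H37.PSolv.quotient hG V
  have hcR := H66.PRed.centralizer_pPrimeCore_le hps hcore
  set R' := pPrimeCore p (G ⧸ V) with hR'
  have hR'c : (Nat.card R').Coprime p := H1.Cores.coprime_card_pPrimeCore p
  set A := Q.map π with hA
  have hAp : IsPGroup p A := hQ.map π
  have hAR : (Nat.card A).Coprime (Nat.card R') := by
    obtain ⟨k, hk⟩ := IsPGroup.iff_card.mp hAp
    rw [hk]
    exact (Nat.Coprime.pow_right k hR'c).symm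
  have hAc : ∀ x ∈ A, ∀ y ∈ A, x * y = y * x := by
    rintro _ ⟨x, hx, rfl⟩ _ ⟨y, hy, rfl⟩
    have h1 := (hker _).mpr (hcomm x hx y hy)
    rw [map_mul, map_mul, map_mul, map_inv, map_inv] at h1
    calc π x * π y = (π x * π y * (π x)⁻¹ * (π y)⁻¹) * (π y * π x) := by group
      _ = π y * π x := by rw [h1, one_mul]
  have hAe : ∀ x ∈ A, x ^ p = 1 := by
    rintro _ ⟨x, hx, rfl⟩
    rw [← map_pow]
    exact (hker _).mpr (hpow x hx)
  have hne : ¬ R' ≤ centralizer (A : Set (G ⧸ V)) := by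
    intro h
    have h1 : A ≤ centralizer (R' : Set (G ⧸ V)) := by
      rw [le_centralizer_iff]; exact h
    have h2 : A ≤ R' := h1.trans hcR
    have h3 : A = ⊥ := by
      have h4 := H1.Coprime.inf_eq_bot_of_coprime_card hAR
      rwa [inf_eq_left.mpr h2] at h4
    apply hQV
    intro x hx
    rw [← hker]
    have h5 : π x ∈ A := ⟨x, hx, rfl⟩
    rw [h3] at h5
    exact h5
  obtain ⟨B', hB'A, a', ha'A, ha'B, hAB, x', ⟨hx'R, hx'B⟩, hxa⟩ :=
    H52.ThompNPC3.exists_hyperplane A R' hAc hAe (by rw [normalizer_eq_top]; exact le_top) hAR hne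
  obtain ⟨a, haQ, rfl⟩ := ha'A
  obtain ⟨x, rfl⟩ := hπs x'
  have hcomapA : A.comap π = Q := by
    rw [hA, comap_map_eq, QuotientGroup.ker_mk', sup_eq_left]; exact hVQ
  refine ⟨R'.comap π, B'.comap π, a, x, inferInstance, ?_, ?_, ?_, haQ, ?_, hx'R, ?_, ?_, ?_⟩
  · intro g hg
    refine ⟨Nat.card R', hR'c, ?_⟩
    rw [← hker, map_pow]
    have h1 : (⟨π g, hg⟩ : R') ^ Nat.card R' = 1 := pow_card_eq_one'
    exact congrArg Subtype.val h1
  · intro v hv
    rw [mem_comap, (hker v).mpr hv]; exact one_mem _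
  · rw [← hcomapA]; exact comap_mono hB'A
  · rw [← hcomapA, hAB]
    have h1 : (B'.comap π ⊔ zpowers a).map π = B' ⊔ zpowers (π a) := by
      rw [Subgroup.map_sup, map_comap_eq_self_of_surjective hπs, MonoidHom.map_zpowers]
    rw [← h1, comap_map_eq, QuotientGroup.ker_mk']
    refine sup_le le_rfl (le_trans ?_ le_sup_left)
    intro v hv
    rw [mem_comap, (hker v).mpr hv]; exact one_mem _
  · intro b hb
    rw [← hker, map_mul, map_mul, map_mul, map_inv, map_inv]
    have h1 := mem_centralizer_iff.mp hx'B (π b) hb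
    rw [← h1]; group
  · intro h
    rw [← hker, map_mul, map_mul, map_mul, map_inv, map_inv] at h
    apply hxa
    calc π x * π a = (π x * π a * (π x)⁻¹ * (π a)⁻¹) * (π a * π x) := by group
      _ = π a * π x := by rw [h, one_mul]
  · -- index
    have hrel : ∀ Y : Subgroup G, V.relIndex Y = Nat.card (Y.map π) := by
      intro Y
      have h2 : (⊥ : Subgroup (G ⧸ V)).comap π = V := by
        ext g; rw [mem_comap, mem_bot, hker]
      have := relIndex_comap (⊥ : Subgroup (G ⧸ V)) π Y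
      rw [h2, relIndex_bot_left] at this
      exact this
    have h1 : V.relIndex Q = Nat.card A := hrel Q
    have h2 : V.relIndex (B'.comap π) = Nat.card B' := by
      rw [hrel, map_comap_eq_self_of_surjective hπs]
    rw [h1, h2]
    have h3 : Nat.card A ≤ Nat.card B' * Nat.card (zpowers (π a)) := by
      rw [hAB, ← Nat.card_prod]
      refine Nat.card_le_card_of_surjective (fun x : B' × zpowers (π a) => (⟨(x.1 : G ⧸ V) * (x.2 : G ⧸ V),
        mul_mem (Subgroup.mem_sup_left x.1.2) (Subgroup.mem_sup_right x.2.2)⟩ : (B' ⊔ zpowers (π a) : Subgroup (G ⧸ V)))) ?_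
      rintro ⟨x, hx⟩
      have hn : B' ≤ normalizer (zpowers (π a) : Set (G ⧸ V)) := by
        apply H1.Coprime.le_normalizer_of_conj_mem
        intro b hb k hk
        have hkA : k ∈ A := by
          have : zpowers (π a) ≤ A := by rw [zpowers_le]; exact ⟨a, haQ, rfl⟩
          exact this hk
        rw [hAc b (hB'A hb) k hkA, mul_inv_cancel_right]; exact hk
      have h1 : x ∈ ((B' ⊔ zpowers (π a) : Subgroup (G ⧸ V)) : Set (G ⧸ V)) := hx
      rw [Subgroup.coe_mul_of_left_le_normalizer_right B' (zpowers (π a)) hn] at h1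
      obtain ⟨a, ha, b, hb, rfl⟩ := Set.mem_mul.mp h1
      exact ⟨(⟨a, ha⟩, ⟨b, hb⟩), rfl⟩
    have h4 : Nat.card (zpowers (π a)) ≤ p := by
      rw [Nat.card_zpowers]
      exact orderOf_le_of_pow_eq_one hp.out.pos (hAe _ ⟨a, haQ, rfl⟩)
    calc Nat.card A ≤ Nat.card B' * Nat.card (zpowers (π a)) := h3
      _ ≤ Nat.card B' * p := Nat.mul_le_mul_left _ h4
      _ = p * Nat.card B' := mul_comm _ _

omit [Finite G] in
theorem card_mul_relIndex_aux (H K : Subgroup G) (h : H ≤ K) : Nat.card H * H.relIndex K = Nat.card K := by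
  rw [mul_comm]
  have := relIndex_mul_relIndex ⊥ H K bot_le h
  rw [relIndex_bot_left, relIndex_bot_left] at this
  rw [mul_comm]; exact this

/-- the Sylow subgroup is normal -/
theorem main (hG : IsPSolvable p G) (hcore : pPrimeCore p G = ⊥) (Q : Sylow p G)
    (hQ : Good p (Q : Subgroup G)) : (Q : Subgroup G) ≤ pCore p G := by
  by_contra hQV
  have hp1 := hp.out
  have hcV := H37.PSolv.centralizer_pCore_le hG hcore
  have hVQ : pCore p G ≤ (Q : Subgroup G) := H1.Cores.pCore_le_sylow Q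
  have hVp : IsPGroup p (pCore p G) := H1.Cores.isPGroup_pCore p
  set Q' : Subgroup G := (Q : Subgroup G) with hQ'
  set Z : Subgroup G := (center Q').map Q'.subtype with hZ
  have hZmem : ∀ x : Q', x ∈ center Q' → (x : G) ∈ Z := fun x hx => ⟨x, hx, rfl⟩
  have hZmem' : ∀ x : Q', (x : G) ∈ Z → x ∈ center Q' := by
    rintro x ⟨z, hz, hzx⟩
    have : z = x := Subtype.ext hzx
    rwa [← this]
  have hZQ : Z ≤ Q' := map_subtype_le _
  have hZc : ∀ z ∈ Z, ∀ g ∈ Q', g * z = z * g := by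
    intro z hz g hg
    exact congrArg Subtype.val (mem_center_iff.mp (hZmem' ⟨z, hZQ hz⟩ hz) ⟨g, hg⟩)
  have hZmk : ∀ x ∈ Q', (∀ g ∈ Q', g * x = x * g) → x ∈ Z := by
    intro x hx h
    exact hZmem ⟨x, hx⟩ (mem_center_iff.mpr fun g => Subtype.ext (h g g.2))
  have hcomm : ∀ x ∈ Q', ∀ g ∈ Q', x * g * x⁻¹ * g⁻¹ ∈ Z := by
    intro x hx g hg
    exact hZmem _ (hQ.comm_mem ⟨x, hx⟩ ⟨g, hg⟩)
  have hpow : ∀ x ∈ Q', x ^ p ∈ Z := fun x hx => hZmem _ (hQ.pow_mem ⟨x, hx⟩)
  have hsemi : ∀ x ∈ Q', x ∉ Z → ∀ z ∈ Z, ∃ g ∈ Q', x * g * x⁻¹ * g⁻¹ = z := by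
    intro x hx hxZ z hz
    obtain ⟨g, hg⟩ := hQ.semi ⟨x, hx⟩ (fun h => hxZ (hZmem _ h)) ⟨z, hZQ hz⟩ (hZmem' _ hz)
    exact ⟨g, g.2, congrArg Subtype.val hg⟩
  have hZp : ∀ z ∈ Z, z ^ p = 1 := by
    intro z hz
    exact congrArg Subtype.val (hQ.pow_center ⟨z, hZQ hz⟩ (hZmem' _ hz))
  have hcardZ : Nat.card (center Q') = Nat.card Z :=
    Nat.card_congr ((center Q').equivMapOfInjective _ Q'.subtype_injective).toEquiv
  set V := pCore p G with hV
  have hZV : Z ≤ V := by
    intro z hz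
    apply hcV
    rw [mem_centralizer_iff]
    intro v hv
    exact hZc z hz v (hVQ hv)
  set E := V ⊓ centralizer (V : Set G) with hE
  have hEn : E.Normal := by rw [hE]; infer_instance
  have hEV : E ≤ V := inf_le_left
  have hEQ : E ≤ Q' := hEV.trans hVQ
  have hZE : Z ≤ E := by
    intro z hz
    refine ⟨hZV hz, ?_⟩
    show z ∈ centralizer (V : Set G)
    rw [mem_centralizer_iff]
    intro v hv
    exact hZc z hz v (hVQ hv)
  have hEc : ∀ e ∈ E, ∀ f ∈ E, e * f = f * e := by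
    intro e he f hf
    exact mem_centralizer_iff.mp hf.2 e he.1
  -- reduction to `p < 5`
  have hp5 : p < 5 := by
    by_contra hcon
    push Not at hcon
    apply hQV
    intro a ha
    apply H37.QuadCore.mem_pCore_of_quadratic hcon hG hcV
    have haz : zpowers a ≤ Q' := by rw [zpowers_le]; exact ha
    have h1 : ⁅V, zpowers a⁆ ≤ Z := by
      rw [commutator_le]
      intro v hv x hx
      exact hcomm v (hVQ hv) x (haz hx)
    rw [commutator_eq_bot_iff_le_centralizer]
    refine h1.trans ?_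
    intro z hz
    rw [mem_centralizer_iff]
    intro x hx
    exact hZc z hz x (haz hx)
  obtain ⟨R, B, a, x, hRn, hRpow, hVB, hBQ, haQ, hQB, hxR, hxB, hcV', hidx⟩ :=
    exists_config hG Q' Q.2 hVQ hQV (fun x hx g hg => hZV (hcomm x hx g hg)) (fun x hx => hZV (hpow x hx))
  obtain ⟨c, hc⟩ : ∃ c, c = x * a * x⁻¹ * a⁻¹ := ⟨_, rfl⟩
  rw [← hc] at hcV'
  have hcR : c ∈ R := by
    rw [hc]
    have : x * a * x⁻¹ * a⁻¹ = x * (a * x⁻¹ * a⁻¹) := by group
    rw [this]
    exact mul_mem hxR (hRn.conj_mem _ (inv_mem hxR) a)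
  -- the normal subgroup acting trivially on `V/E`
  let N := sectionKernel V E
  have hNn : N.Normal := by
    show (sectionKernel V E).Normal
    unfold sectionKernel; infer_instance
  have hNmem : ∀ g : G, g ∈ N ↔ ∀ v ∈ V, g * v * g⁻¹ * v⁻¹ ∈ E := by
    intro g
    have h0 : g ∈ N ↔ ∀ v ∈ V, ⁅v, g⁆ ∈ E := H13.StableNormal.mem_sectionKernel
    rw [h0]
    have h3 : ∀ v : G, ⁅v, g⁆ = (g * v * g⁻¹ * v⁻¹)⁻¹ := by
      intro v; rw [commutatorElement_def]; group
    constructor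
    · intro h v hv
      have := inv_mem (h v hv)
      rwa [h3 v, inv_inv] at this
    · intro h v hv
      rw [h3 v]; exact inv_mem (h v hv)
  have hQN : Q' ≤ N := by
    intro g hg
    rw [hNmem]
    intro v hv
    exact hZE (hcomm g hg v (hVQ hv))
  have haN : a ∈ N := hQN haQ
  have hcN : c ∈ N := by
    rw [hc]
    exact mul_mem (hNn.conj_mem _ haN x) (inv_mem haN)
  -- commuting with `a` modulo `V` is impossible
  have hK2 : a * c * a⁻¹ * c⁻¹ ∉ V := by
    intro h
    obtain ⟨n, hn, hcn⟩ := hRpow c hcR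
    have hcp : c ^ p ∈ V := by
      have hker : ∀ g : G, (QuotientGroup.mk' V) g = 1 ↔ g ∈ V := fun g => QuotientGroup.eq_one_iff g
      set π := QuotientGroup.mk' V with hπ
      rw [← hker, map_mul, map_mul, map_mul, map_inv, map_inv] at h
      have hcm : Commute (π c) (π a) := by
        have : π a * π c = (π a * π c * (π a)⁻¹ * (π c)⁻¹) * (π c * π a) := by group
        rw [h, one_mul] at this
        exact this.symm
      have hap : (π a) ^ p = 1 := by rw [← map_pow]; exact (hker _).mpr (hZV (hpow a haQ))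
      have h1 : π c * π a = π x * π a * (π x)⁻¹ := by
        rw [hc, map_mul, map_mul, map_mul, map_inv, map_inv]; group
      have h2 : (π c * π a) ^ p = 1 := by
        rw [h1, conj_pow, hap]; group
      rw [hcm.mul_pow, hap, mul_one] at h2
      rw [← hker, map_pow]; exact h2
    apply hcV'
    -- c^n, c^p ∈ V
    have h3 : (QuotientGroup.mk' V c) = 1 := by
      rw [← orderOf_eq_one_iff]
      apply Nat.eq_one_of_dvd_coprimes hn
      · apply orderOf_dvd_of_pow_eq_one
        rw [← map_pow]; exact (QuotientGroup.eq_one_iff _).mpr hcn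
      · apply orderOf_dvd_of_pow_eq_one
        rw [← map_pow]; exact (QuotientGroup.eq_one_iff _).mpr hcp
    exact (QuotientGroup.eq_one_iff _).mp h3
  have hgR : a * c * a⁻¹ * c⁻¹ ∈ R := mul_mem (hRn.conj_mem _ hcR a) (inv_mem hcR)
  have hgN : a * c * a⁻¹ * c⁻¹ ∈ N := mul_mem (hNn.conj_mem _ hcN a) (inv_mem hcN)
  -- a subgroup `W` of `E` normalized by `c`, centralized by `a` and by `[a,c]`
  have hKW : ∀ W : Subgroup G, W ≤ E → c ∈ normalizer (W : Set G) → (∀ w ∈ W, a * w = w * a) →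
      ((∀ e ∈ E, c * e * c⁻¹ * e⁻¹ ∈ W) ∨ (∀ e ∈ E, a * e * a⁻¹ * e⁻¹ ∈ W)) → False := by
    intro W hWE hcW haW hor
    apply hK2
    obtain ⟨n, hn, hgn⟩ := hRpow _ hgR
    apply stab hcV hn hgn ((hNmem _).mp hgN)
    have hcW1 : ∀ w ∈ W, c * w * c⁻¹ ∈ W := fun w hw => (mem_normalizer_iff.mp hcW w).mp hw
    have hcW2 : ∀ w ∈ W, c⁻¹ * w * c ∈ W := fun w hw => (mem_normalizer_iff''.mp hcW w).mp hw
    have hgW : ∀ w ∈ W, (a * c * a⁻¹ * c⁻¹) * w = w * (a * c * a⁻¹ * c⁻¹) := by
      intro w hw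
      have h1 := haW _ (hcW2 w hw)
      have h2 := haW _ hw
      calc (a * c * a⁻¹ * c⁻¹) * w = a * c * (a⁻¹ * (c⁻¹ * w * c)) * c⁻¹ := by group
        _ = a * c * ((c⁻¹ * w * c) * a⁻¹) * c⁻¹ := by
            have h3 : a⁻¹ * (c⁻¹ * w * c) = (c⁻¹ * w * c) * a⁻¹ := by
              calc a⁻¹ * (c⁻¹ * w * c) = a⁻¹ * ((c⁻¹ * w * c) * a) * a⁻¹ := by group
                _ = a⁻¹ * (a * (c⁻¹ * w * c)) * a⁻¹ := by rw [h1]
                _ = (c⁻¹ * w * c) * a⁻¹ := by group
            rw [h3]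
        _ = (a * w) * (c * a⁻¹ * c⁻¹) := by group
        _ = w * (a * c * a⁻¹ * c⁻¹) := by rw [h2]; group
    have hgE : ∀ e ∈ E, (a * c * a⁻¹ * c⁻¹) * e * (a * c * a⁻¹ * c⁻¹)⁻¹ * e⁻¹ ∈ W := by
      have haWn : ∀ w ∈ W, a * w * a⁻¹ = w := fun w hw => by rw [haW w hw]; group
      rcases hor with h | h
      · intro e he
        have h1 : c⁻¹ * e * c ∈ E := by
          have := hEn.conj_mem e he c⁻¹
          rwa [inv_inv] at this
        have h2 := hcW2 _ (h e he)
        -- c⁻¹ (c e c⁻¹ e⁻¹) c = e c⁻¹ e⁻¹ c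
        set w1 := c⁻¹ * (c * e * c⁻¹ * e⁻¹) * c with hw1
        have h3 : c⁻¹ * e * c = w1⁻¹ * e := by rw [hw1]; group
        have h4 : a⁻¹ * e * a ∈ E := by
          have := hEn.conj_mem e he a⁻¹
          rwa [inv_inv] at this
        have h5 := h _ h4
        set w2 := c * (a⁻¹ * e * a) * c⁻¹ * (a⁻¹ * e * a)⁻¹ with hw2
        have h6 := hcW1 _ (inv_mem h2)
        have h7 : (a * c * a⁻¹ * c⁻¹) * e * (a * c * a⁻¹ * c⁻¹)⁻¹ * e⁻¹ =
            (a * (c * w1⁻¹ * c⁻¹) * a⁻¹) * (a * w2 * a⁻¹) := by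
          have h8 : (a * c * a⁻¹ * c⁻¹) * e * (a * c * a⁻¹ * c⁻¹)⁻¹ * e⁻¹ =
              a * c * (a⁻¹ * (c⁻¹ * e * c) * a) * c⁻¹ * a⁻¹ * e⁻¹ := by group
          have h9 : a⁻¹ * w1⁻¹ = w1⁻¹ * a⁻¹ := by
            have h10 := haW _ (inv_mem h2)
            calc a⁻¹ * w1⁻¹ = a⁻¹ * (w1⁻¹ * a) * a⁻¹ := by group
              _ = a⁻¹ * (a * w1⁻¹) * a⁻¹ := by rw [h10]
              _ = w1⁻¹ * a⁻¹ := by group
          rw [h8, h3]
          calc a * c * (a⁻¹ * (w1⁻¹ * e) * a) * c⁻¹ * a⁻¹ * e⁻¹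
              = a * c * ((a⁻¹ * w1⁻¹) * e * a) * c⁻¹ * a⁻¹ * e⁻¹ := by group
            _ = a * c * ((w1⁻¹ * a⁻¹) * e * a) * c⁻¹ * a⁻¹ * e⁻¹ := by rw [h9]
            _ = _ := by rw [hw2]; group
        rw [h7, haWn _ h6, haWn _ h5]
        exact mul_mem h6 h5
      · intro e he
        have h1 : c⁻¹ * e * c ∈ E := by
          have := hEn.conj_mem e he c⁻¹
          rwa [inv_inv] at this
        have h2 := h _ h1
        have h4 : a⁻¹ * (c⁻¹ * e * c) * a ∈ E := by
          have := hEn.conj_mem _ h1 a⁻¹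
          rwa [inv_inv] at this
        have h5 := h _ h4
        have h6 := h _ he
        -- a f a⁻¹ f⁻¹ with f = a⁻¹ (c⁻¹ e c) a equals (c⁻¹ e c) (a⁻¹ (c⁻¹ e c) a)⁻¹
        set w1 := a * (a⁻¹ * (c⁻¹ * e * c) * a) * a⁻¹ * (a⁻¹ * (c⁻¹ * e * c) * a)⁻¹ with hw1
        have h7 := hcW1 _ (inv_mem h5)
        have h8 : a⁻¹ * (c⁻¹ * e * c) * a * (c⁻¹ * e * c)⁻¹ = w1⁻¹ := by rw [hw1]; group
        have h9 : (a * c * a⁻¹ * c⁻¹) * e * (a * c * a⁻¹ * c⁻¹)⁻¹ * e⁻¹ =
            (a * (c * w1⁻¹ * c⁻¹) * a⁻¹) * (a * e * a⁻¹ * e⁻¹) := by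
          rw [← h8]; group
        rw [h9, haWn _ h7]
        exact mul_mem h7 h6
    intro e he
    exact hgW _ (hgE e he)
  -- `c` centralizes every subgroup of `Z` normalized by `x`
  have hcY : ∀ Y : Subgroup G, Y ≤ Z → x ∈ normalizer (Y : Set G) → ∀ z ∈ Y, c * z = z * c := by
    intro Y hYZ hxY z hz
    have h1 : x⁻¹ * z * x ∈ Y := (mem_normalizer_iff''.mp hxY z).mp hz
    have h2 := hZc _ (hYZ h1) a haQ
    have h3 := hZc _ (hYZ hz) a haQ
    have h4 : a⁻¹ * z = z * a⁻¹ := by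
      calc a⁻¹ * z = a⁻¹ * (z * a) * a⁻¹ := by group
        _ = a⁻¹ * (a * z) * a⁻¹ := by rw [h3]
        _ = z * a⁻¹ := by group
    calc c * z = x * a * x⁻¹ * (a⁻¹ * z) := by rw [hc]; group
      _ = x * (a * (x⁻¹ * z * x)) * x⁻¹ * a⁻¹ := by rw [h4]; group
      _ = z * c := by rw [h2, hc]; group
  have hZc' : (∀ z ∈ Z, c * z = z * c) → False := by
    intro h
    apply hKW Z hZE ?_ (fun w hw => hZc w hw a haQ) (Or.inr fun e he => hcomm a haQ e (hEQ he))
    apply centralizer_le_normalizer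
    rw [mem_centralizer_iff]
    intro z hz
    exact (h z hz).symm
  have hxZ : x ∉ normalizer (Z : Set G) := fun h => hZc' (hcY Z le_rfl h)
  have hxBn : x ∈ normalizer (B : Set G) := by
    apply H12.Basic.mem_normalizer_of_conj
    intro b hb
    have : x * b * x⁻¹ = (x * b * x⁻¹ * b⁻¹) * b := by group
    rw [this]; exact mul_mem (hVB (hxB b hb)) hb
  have hYZ : ⁅E, B⁆ ≤ Z := by
    rw [commutator_le]; intro e he b hb; exact hcomm e (hEQ he) b (hBQ hb)
  have hxY : x ∈ normalizer ((⁅E, B⁆ : Subgroup G) : Set G) :=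
    H1.Coprime2.le_normalizer_commutator (B := zpowers x) (by rw [normalizer_eq_top]; exact le_top)
      (by rw [zpowers_le]; exact hxBn) (mem_zpowers x)
  have hcEB := hcY _ hYZ hxY
  set W : Subgroup G := ⁅zpowers c, E⁆ with hW
  have hWE : W ≤ E := commutator_le_right _ _
  have hcent : ∀ c' : G, ∀ S : Subgroup G, (∀ z ∈ S, c' * z = z * c') → S ≤ centralizer (zpowers c' : Set G) := by
    intro c' S h z hz
    rw [mem_centralizer_iff]
    intro y hy
    obtain ⟨n, rfl⟩ := mem_zpowers_iff.mp hy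
    exact ((show Commute c' z from h z hz).zpow_left n).eq
  have hWB : W ≤ centralizer (B : Set G) := by
    have h1 : ⁅⁅E, B⁆, zpowers c⁆ = ⊥ := by
      rw [commutator_eq_bot_iff_le_centralizer]
      exact hcent c _ hcEB
    have h2 : ⁅⁅B, zpowers c⁆, E⁆ = ⊥ := by
      rw [commutator_eq_bot_iff_le_centralizer]
      have h3 : ⁅B, zpowers c⁆ ≤ V := by
        rw [commutator_le]
        intro b hb y hy
        obtain ⟨n, rfl⟩ := mem_zpowers_iff.mp hy
        have hker : ∀ g : G, (QuotientGroup.mk' V) g = 1 ↔ g ∈ V := fun g => QuotientGroup.eq_one_iff g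
        set π := QuotientGroup.mk' V with hπ
        have hbx : Commute (π b) (π x) := by
          have := (hker _).mpr (hxB b hb)
          rw [map_mul, map_mul, map_mul, map_inv, map_inv] at this
          show π b * π x = π x * π b
          calc π b * π x = 1 * (π b * π x) := (one_mul _).symm
            _ = π x * π b := by rw [← this]; group
        have hba : Commute (π b) (π a) := by
          have := (hker _).mpr (hZV (hcomm b (hBQ hb) a haQ))
          rw [map_mul, map_mul, map_mul, map_inv, map_inv] at this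
          show π b * π a = π a * π b
          calc π b * π a = (π b * π a * (π b)⁻¹ * (π a)⁻¹) * (π a * π b) := by group
            _ = π a * π b := by rw [this, one_mul]
        have hbc : Commute (π b) (π c) := by
          rw [hc, map_mul, map_mul, map_mul, map_inv, map_inv]
          exact ((hbx.mul_right hba).mul_right hbx.inv_right).mul_right hba.inv_right
        rw [← hker, commutatorElement_def, map_mul, map_mul, map_mul, map_inv, map_inv, map_zpow,
          (hbc.zpow_right n).eq]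
        group
      exact h3.trans (by
        intro v hv
        rw [mem_centralizer_iff]
        intro e he
        exact (mem_centralizer_iff.mp he.2 v hv).symm)
    have h3 := commutator_commutator_eq_bot_of_rotate (H₁ := zpowers c) h1 h2
    rwa [commutator_eq_bot_iff_le_centralizer] at h3
  have hWZ : ¬ W ≤ Z := by
    intro h
    apply hKW W hWE (H1.Coprime2.le_normalizer_commutator_left _ _ (mem_zpowers c))
      (fun w hw => hZc w (h hw) a haQ)
    left
    intro e he
    exact commutator_mem_commutator (mem_zpowers c) he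
  obtain ⟨v, hvW, hvZ⟩ := SetLike.not_le_iff_exists.mp hWZ
  have hvE : v ∈ E := hWE hvW
  have hvQ : v ∈ Q' := hEQ hvE
  have hvB : ∀ b ∈ B, v * b = b * v := fun b hb => (mem_centralizer_iff.mp (hWB hvW) b hb).symm
  -- `Z` has order `p`
  obtain ⟨t, ht⟩ : ∃ t, t = v * a * v⁻¹ * a⁻¹ := ⟨_, rfl⟩
  have htZ : t ∈ Z := by rw [ht]; exact hcomm v hvQ a haQ
  have hZt : Z ≤ zpowers t := by
    let D : Subgroup G :=
      { carrier := {g | g ∈ Q' ∧ v * g * v⁻¹ * g⁻¹ ∈ zpowers t}
        one_mem' := ⟨one_mem _, by simp [one_mem]⟩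
        mul_mem' := by
          rintro g k ⟨hg, hg2⟩ ⟨hk, hk2⟩
          refine ⟨mul_mem hg hk, ?_⟩
          have h1 := hZc _ (hcomm v hvQ k hk) g hg
          have h2 : v * (g * k) * v⁻¹ * (g * k)⁻¹ = (v * g * v⁻¹ * g⁻¹) * (v * k * v⁻¹ * k⁻¹) := by
            calc v * (g * k) * v⁻¹ * (g * k)⁻¹ = (v * g * v⁻¹ * g⁻¹) * (g * (v * k * v⁻¹ * k⁻¹)) * g⁻¹ := by group
              _ = _ := by rw [h1]; group
          rw [h2]; exact mul_mem hg2 hk2
        inv_mem' := by
          rintro g ⟨hg, hg2⟩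
          refine ⟨inv_mem hg, ?_⟩
          have h1 := hZc _ (inv_mem (hcomm v hvQ g hg)) g⁻¹ (inv_mem hg)
          have h2 : v * g⁻¹ * v⁻¹ * g⁻¹⁻¹ = (v * g * v⁻¹ * g⁻¹)⁻¹ := by
            calc v * g⁻¹ * v⁻¹ * g⁻¹⁻¹ = (g⁻¹ * (v * g * v⁻¹ * g⁻¹)⁻¹) * g := by group
              _ = (v * g * v⁻¹ * g⁻¹)⁻¹ := by rw [h1]; group
          rw [h2]; exact inv_mem hg2 }
    have hD : Q' ≤ D := by
      refine hQB.trans (sup_le ?_ ?_)
      · intro b hb
        refine ⟨hBQ hb, ?_⟩
        rw [hvB b hb]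
        have : b * v * v⁻¹ * b⁻¹ = 1 := by group
        rw [this]; exact one_mem _
      · rw [zpowers_le]
        exact ⟨haQ, by rw [← ht]; exact mem_zpowers t⟩
    intro z hz
    obtain ⟨g, hg, rfl⟩ := hsemi v hvQ hvZ z hz
    exact (hD hg).2
  have hZle : Nat.card Z ≤ p := by
    refine (card_le_of_le hZt).trans ?_
    rw [Nat.card_zpowers]
    exact orderOf_le_of_pow_eq_one hp1.pos (hZp t htZ)
  have hge : ∀ Y : Subgroup G, Y ≤ Z → Y ≠ ⊥ → p ≤ Nat.card Y := by
    intro Y hY hYne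
    obtain ⟨k, hk⟩ := IsPGroup.iff_card.mp (Q.2.to_le (hY.trans hZQ))
    rw [hk]
    have hk0 : k ≠ 0 := by
      rintro rfl
      rw [pow_zero] at hk
      exact hYne (card_eq_one.mp hk)
    calc p = p ^ 1 := (pow_one p).symm
      _ ≤ p ^ k := Nat.pow_le_pow_right hp1.pos (Nat.one_le_iff_ne_zero.mpr hk0)
  have hZmin : ∀ Y : Subgroup G, Y ≤ Z → Y ≠ ⊥ → Y = Z := by
    intro Y hY hYne
    exact eq_of_le_of_card_ge hY (hZle.trans (hge Y hY hYne))
  have hZbot : Z ≠ ⊥ := by
    intro h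
    apply hvZ
    apply hZmk v hvQ
    intro g hg
    have h1 := hcomm g hg v hvQ
    rw [h, mem_bot] at h1
    calc g * v = (g * v * g⁻¹ * v⁻¹) * (v * g) := by group
      _ = v * g := by rw [h1, one_mul]
  have hZcard : Nat.card Z = p := le_antisymm hZle (hge Z le_rfl hZbot)
  -- `B = V`
  have hBV : B ≤ V := by
    by_contra hcon
    obtain ⟨b, hb, hbV⟩ := SetLike.not_le_iff_exists.mp hcon
    have hYne : ⁅E, B⁆ ≠ ⊥ := by
      intro h
      apply hbV
      apply nk hcV ((hNmem b).mp (hQN (hBQ hb)))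
      intro e he
      rw [commutator_eq_bot_iff_le_centralizer] at h
      exact mem_centralizer_iff.mp (h he) b hb
    apply hZc'
    have h1 := hZmin _ hYZ hYne
    intro z hz
    rw [← h1] at hz
    exact hcEB z hz
  -- `V` is abelian
  have hVab : ∀ u ∈ V, ∀ w ∈ V, u * w = w * u := by
    have h1 : ⁅V, V⁆ ≤ Z := by
      rw [commutator_le]; intro u hu w hw; exact hcomm u (hVQ hu) w (hVQ hw)
    by_cases h2 : ⁅V, V⁆ = ⊥
    · rw [commutator_eq_bot_iff_le_centralizer] at h2
      intro u hu w hw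
      exact mem_centralizer_iff.mp (h2 hw) u hu
    · exfalso
      apply hxZ
      rw [← hZmin _ h1 h2, normalizer_eq_top]; trivial
  have hVE : V ≤ E := by
    intro u hu
    refine ⟨hu, ?_⟩
    show u ∈ centralizer (V : Set G)
    rw [mem_centralizer_iff]
    intro w hw
    exact hVab w hw u hu
  -- `|V| ≤ p²`
  have hVcard : Nat.card V ≤ p * p := by
    let f : V →* Z :=
      { toFun := fun u => ⟨(u : G) * a * (u : G)⁻¹ * a⁻¹, hcomm u (hVQ u.2) a haQ⟩
        map_one' := Subtype.ext (by simp)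
        map_mul' := by
          intro u w
          apply Subtype.ext
          show ((u : G) * w) * a * ((u : G) * w)⁻¹ * a⁻¹ = (u * a * (u : G)⁻¹ * a⁻¹) * (w * a * (w : G)⁻¹ * a⁻¹)
          have h1 := hZc _ (hcomm w (hVQ w.2) a haQ) u (hVQ u.2)
          have h2 := hZc _ (hcomm u (hVQ u.2) a haQ) _ (hZQ (hcomm w (hVQ w.2) a haQ))
          calc ((u : G) * w) * a * ((u : G) * w)⁻¹ * a⁻¹ = (u * (w * a * (w : G)⁻¹ * a⁻¹)) * (a * (u : G)⁻¹ * a⁻¹) := by group
            _ = (w * a * (w : G)⁻¹ * a⁻¹) * (u * a * (u : G)⁻¹ * a⁻¹) := by rw [h1]; group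
            _ = _ := by rw [h2] }
    have h1 : Nat.card V = Nat.card f.ker * Nat.card f.range := by
      rw [← card_mul_index f.ker, index_ker]
    have h2 : Nat.card f.range ≤ p := by
      rw [← hZcard]; exact Nat.card_le_card_of_injective _ f.range.subtype_injective
    have h3 : Nat.card f.ker ≤ p := by
      have h4 : f.ker.map V.subtype ≤ Z := by
        rintro _ ⟨u, hu, rfl⟩
        have h5 : (u : G) * a * (u : G)⁻¹ * a⁻¹ = 1 := congrArg Subtype.val hu
        have h6 : a * (u : G) = u * a := by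
          calc a * (u : G) = ((u : G) * a * (u : G)⁻¹ * a⁻¹)⁻¹ * (u * a) := by group
            _ = u * a := by rw [h5]; group
        apply hZmk _ (hVQ u.2)
        have h7 : Q' ≤ centralizer ({(u : G)} : Set G) := by
          refine hQB.trans (sup_le ?_ ?_)
          · intro b hb
            rw [mem_centralizer_singleton_iff]
            exact hVab b (hBV hb) u u.2
          · rw [zpowers_le, mem_centralizer_singleton_iff]; exact h6
        intro g hg
        exact mem_centralizer_singleton_iff.mp (h7 hg)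
      have h5 : Nat.card (f.ker.map V.subtype) = Nat.card f.ker :=
        (Nat.card_congr (f.ker.equivMapOfInjective _ V.subtype_injective).toEquiv).symm
      rw [← h5, ← hZcard]
      exact card_le_of_le h4
    rw [h1]
    exact Nat.mul_le_mul h3 h2
  have hVcard' : Nat.card V = p ^ 2 := by
    obtain ⟨k, hk⟩ := IsPGroup.iff_card.mp hVp
    have h1 : Nat.card Z < Nat.card V := by
      rcases lt_or_eq_of_le (card_le_of_le hZV) with h | h
      · exact h
      · exfalso
        have h2 := eq_of_le_of_card_ge hZV h.ge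
        exact hvZ (by rw [h2]; exact hEV hvE)
    rw [hZcard, hk] at h1
    rw [hk] at hVcard
    have hk1 : 1 < k := by
      by_contra hcon
      have : k ≤ 1 := not_lt.mp hcon
      have := Nat.pow_le_pow_right hp1.pos this
      rw [pow_one] at this
      omega
    have hk2 : k ≤ 2 := by
      rw [← pow_two] at hVcard
      exact (Nat.pow_le_pow_iff_right hp1.one_lt).mp hVcard
    have : k = 2 := by omega
    rw [hk, this]
  have hQcard : Nat.card Q' = p ^ 3 := by
    have h1 : B = V := le_antisymm hBV hVB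
    rw [h1, relIndex_self, mul_one] at hidx
    have h2 : Nat.card Q' = Nat.card V * V.relIndex Q' := (card_mul_relIndex_aux V Q' hVQ).symm
    obtain ⟨k, hk⟩ := IsPGroup.iff_card.mp Q.2
    have hkk : Nat.card Q' = p ^ k := hk
    rw [hVcard'] at h2
    have h3 : Nat.card V < Nat.card Q' := by
      rcases lt_or_eq_of_le (card_le_of_le hVQ) with h | h
      · exact h
      · exfalso
        exact hQV (eq_of_le_of_card_ge hVQ h.ge).ge
    rw [hVcard', hkk] at h3
    have h4 : p ^ k ≤ p ^ 3 := by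
      rw [← hkk, h2]
      calc p ^ 2 * V.relIndex Q' ≤ p ^ 2 * p := Nat.mul_le_mul_left _ hidx
        _ = p ^ 3 := by ring
    have h5 : 2 < k := (Nat.pow_lt_pow_iff_right hp1.one_lt).mp h3
    have h6 : k ≤ 3 := (Nat.pow_le_pow_iff_right hp1.one_lt).mp h4
    have : k = 3 := by omega
    rw [hkk, this]
  have hcZp : Nat.card (center Q') = p := by rw [hcardZ, hZcard]
  have hp23 : p = 2 ∨ p = 3 := by
    have h2 := hp1.two_le
    have h4 : p ≠ 4 := by
      intro h
      rw [h] at hp1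
      exact absurd hp1 (by norm_num)
    omega
  rcases hp23 with h2 | h3
  · -- `p = 2`
    have hv2 : v ^ 2 = 1 := by
      by_contra hne
      apply hxZ
      have h2' : ∀ u ∈ Q', u ^ 2 ∈ Z := by intro u hu; have := hpow u hu; rwa [h2] at this
      have hz0 : v ^ 2 ∈ Z := h2' v hvQ
      have h4 : zpowers (v ^ 2) = Z := by
        apply hZmin
        · rw [zpowers_le]; exact hz0
        · intro h
          rw [zpowers_eq_bot] at h
          exact hne h
      have h5 : x * v ^ 2 * x⁻¹ ∈ Z := by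
        have h6 : x * v * x⁻¹ ∈ V := (inferInstance : V.Normal).conj_mem v (hEV hvE) x
        have h7 := h2' _ (hVQ h6)
        rwa [conj_pow] at h7
      apply H12.Basic.mem_normalizer_of_conj
      intro z hz
      rw [← h4] at hz
      obtain ⟨n, rfl⟩ := mem_zpowers_iff.mp hz
      have h8 : x * (v ^ 2) ^ n * x⁻¹ = (x * v ^ 2 * x⁻¹) ^ n := by rw [conj_zpow]
      rw [h8]
      exact zpow_mem h5 n
    refine hQ.two h2 (by rw [hQcard, h2]; norm_num) (by rw [hcZp, h2]) ⟨v, hvQ⟩ ?_ (Subtype.ext hv2)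
    intro h
    exact hvZ (hZmem _ h)
  · exact hQ.three h3 (by rw [hcZp, h3]) (by rw [hQcard, h3]; norm_num)

theorem pLengthLE_one (hG : IsPSolvable p G) (Q : Sylow p G)
    (hQ : center (Q : Subgroup G) = ⊤ ∨ Good p (Q : Subgroup G)) : PLengthLE p 1 G := by
  set N := pPrimeCore p G with hN
  have hNc : (Nat.card N).Coprime p := H1.Cores.coprime_card_pPrimeCore p
  apply H66.PLen.pLengthLE_of_quotient_coprime N hNc
  have hs := QuotientGroup.mk'_surjective N
  let Q' : Sylow p (G ⧸ N) := Q.mapSurjective hs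
  have hQ' : (Q' : Subgroup (G ⧸ N)) = (Q : Subgroup G).map (QuotientGroup.mk' N) := rfl
  have hcore : pPrimeCore p (G ⧸ N) = ⊥ := H1.Cores.pPrimeCore_quotient_pPrimeCore p
  have hps := H37.PSolv.quotient hG N
  have e : (Q : Subgroup G) ≃* (Q' : Subgroup (G ⧸ N)) := by
    have hb : Function.Bijective ((QuotientGroup.mk' N).subgroupMap (Q : Subgroup G)) := by
      refine ⟨?_, MonoidHom.subgroupMap_surjective _ _⟩
      rw [injective_iff_map_eq_one]
      rintro ⟨x, hx⟩ h
      have h1 : QuotientGroup.mk' N x = 1 := congrArg Subtype.val h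
      have h2 : x ∈ N := (QuotientGroup.eq_one_iff x).mp h1
      have h3 : (Q : Subgroup G) ⊓ N = ⊥ := by
        apply H1.Coprime.inf_eq_bot_of_coprime_card
        obtain ⟨k, hk⟩ := IsPGroup.iff_card.mp Q.2
        have hk' : Nat.card (Q : Subgroup G) = p ^ k := hk
        rw [hk']
        exact (Nat.Coprime.pow_right k hNc).symm
      have h4 : x ∈ (Q : Subgroup G) ⊓ N := ⟨hx, h2⟩
      rw [h3, mem_bot] at h4
      exact Subtype.ext h4
    exact MulEquiv.ofBijective ((QuotientGroup.mk' N).subgroupMap (Q : Subgroup G)) hb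
  have hle : (Q' : Subgroup (G ⧸ N)) ≤ pCore p (G ⧸ N) := by
    rcases hQ with h | h
    · have hc := H37.PSolv.centralizer_pCore_le hps hcore
      refine le_trans ?_ hc
      intro x hx
      rw [mem_centralizer_iff]
      intro v hv
      have hv' := H1.Cores.pCore_le_sylow Q' hv
      have h1 : ∀ u w : (Q : Subgroup G), u * w = w * u := by
        intro u w
        have : w ∈ center (Q : Subgroup G) := by rw [h]; trivial
        exact mem_center_iff.mp this u
      obtain ⟨u, hu⟩ := e.surjective ⟨x, hx⟩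
      obtain ⟨w, hw⟩ := e.surjective ⟨v, hv'⟩
      have h2 : (⟨v, hv'⟩ : (Q' : Subgroup (G ⧸ N))) * ⟨x, hx⟩ = ⟨x, hx⟩ * ⟨v, hv'⟩ := by
        rw [← hu, ← hw, ← map_mul, ← map_mul, h1]
      exact congrArg Subtype.val h2
    · exact main hps hcore Q' (h.of_equiv e)
  refine H28.PLen.pLengthLE_one_of (N := ⊥) (K := pCore p (G ⧸ N)) inferInstance inferInstance (by simp) ?_ ?_
  · intro x hx
    obtain ⟨k, hk⟩ := H1.Cores.isPGroup_pCore (G := G ⧸ N) p ⟨x, hx⟩
    exact ⟨k, by rw [mem_bot]; exact congrArg Subtype.val hk⟩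
  · have h1 : (Q' : Subgroup (G ⧸ N)) = pCore p (G ⧸ N) := le_antisymm hle (H1.Cores.pCore_le_sylow Q')
    rw [← h1]
    have h2 := Q'.not_dvd_index
    exact ((Nat.Prime.coprime_iff_not_dvd hp.out).mpr h2).symm

end H76.MinNN2
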