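import Mathlib
import Cfsg.Prelude.Def_Solvable
import Cfsg.Agent.Lib.H76.TwoTrans
import Cfsg.Agent.Lib.H52.ThompNPC3
import Cfsg.Agent.Lib.H4.Burnside
import Cfsg.Agent.Lib.H1.Solv
import Cfsg.Agent.Lib.H14.Repl2

/-! No offenders for `{p,q}`-groups with `{p,q} ≠ {2,3}`. -/

set_option autoImplicit false
set_option linter.unusedSectionVars false

namespace H76.PushPQ

open Subgroup Cfsg
open scoped commutatorElement

universe u

variable {p q : ℕ} [hp : Fact p.Prime] [hq : Fact q.Prime]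

theorem num_contra (hpq : p ≠ q) (h23 : ¬ ((p = 2 ∧ q = 3) ∨ (p = 3 ∧ q = 2))) {a b : ℕ}
    (h : p ^ 2 - 1 ∣ p ^ a * q ^ b) : False := by
  have hpp : p.Prime := hp.out
  have hqp : q.Prime := hq.out
  have hp2 : 2 ≤ p := hpp.two_le
  have h1 : p ^ 2 - 1 = (p - 1) * (p + 1) := by
    obtain ⟨m, rfl⟩ : ∃ m, p = m + 1 := ⟨p - 1, by omega⟩
    rw [Nat.add_sub_cancel]
    have : (m + 1) ^ 2 - 1 = m * (m + 1 + 1) := by
      have h2 : (m + 1) ^ 2 = m * (m + 1 + 1) + 1 := by ring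
      rw [h2, Nat.add_sub_cancel]
    exact this
  have hcop : (p ^ 2 - 1).Coprime (p ^ a) := by
    apply Nat.Coprime.pow_right
    apply Nat.Coprime.symm
    rw [Nat.Prime.coprime_iff_not_dvd hpp]
    intro hd
    have h2 : p ∣ p ^ 2 := dvd_pow_self p two_ne_zero
    have h3 : 1 ≤ p ^ 2 := Nat.one_le_pow _ _ hpp.pos
    have h4 : p ∣ p ^ 2 - (p ^ 2 - 1) := Nat.dvd_sub h2 hd
    have h5 : p ^ 2 - (p ^ 2 - 1) = 1 := by omega
    rw [h5] at h4
    exact hpp.one_lt.ne' (Nat.dvd_one.1 h4)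
  have hd : p ^ 2 - 1 ∣ q ^ b := hcop.dvd_of_dvd_mul_left h
  rw [h1] at hd
  obtain ⟨m, -, hm⟩ := (Nat.dvd_prime_pow hqp).1 ((dvd_mul_right _ _).trans hd)
  obtain ⟨n, -, hn⟩ := (Nat.dvd_prime_pow hqp).1 ((dvd_mul_left _ _).trans hd)
  rcases Nat.eq_or_lt_of_le hp2 with h2 | h2
  · -- p = 2
    subst h2
    have h3 : q ∣ 3 := by
      have hn0 : n ≠ 0 := by rintro rfl; norm_num at hn
      have : (3 : ℕ) = q ^ n := by rw [← hn]
      rw [this]; exact dvd_pow_self q hn0
    have h4 : q = 3 := (Nat.prime_dvd_prime_iff_eq hqp Nat.prime_three).1 h3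
    exact h23 (Or.inl ⟨rfl, h4⟩)
  · have hm0 : m ≠ 0 := by
      rintro rfl
      rw [pow_zero] at hm
      omega
    have hn0 : n ≠ 0 := by
      rintro rfl
      rw [pow_zero] at hn
      omega
    have h3 : q ∣ p - 1 := by rw [hm]; exact dvd_pow_self q hm0
    have h4 : q ∣ p + 1 := by rw [hn]; exact dvd_pow_self q hn0
    have h5 : q ∣ 2 := by
      have := Nat.dvd_sub h4 h3
      have e : p + 1 - (p - 1) = 2 := by omega
      rwa [e] at this
    have hq2 : q = 2 := (Nat.prime_dvd_prime_iff_eq hqp Nat.prime_two).1 h5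
    subst hq2
    have hm1 : m = 1 := by
      by_contra hne
      have hm2 : 2 ≤ m := by omega
      have hn2 : 2 ≤ n := by
        by_contra h6
        have h7 : n = 1 := by omega
        rw [h7] at hn
        omega
      have h6 : 4 ∣ p - 1 := by
        rw [hm, show 4 = 2 ^ 2 by norm_num]; exact pow_dvd_pow 2 hm2
      have h7 : 4 ∣ p + 1 := by
        rw [hn, show 4 = 2 ^ 2 by norm_num]; exact pow_dvd_pow 2 hn2
      omega
    rw [hm1] at hm
    exact h23 (Or.inr ⟨by omega, rfl⟩)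

theorem off {Γ : Type u} [Group Γ] [Finite Γ] (hpq : p ≠ q) (h23 : ¬ ((p = 2 ∧ q = 3) ∨ (p = 3 ∧ q = 2)))
    {V X A : Subgroup Γ} [hVn : V.Normal] (hVc : ∀ u ∈ V, ∀ v ∈ V, u * v = v * u)
    (hVp : ∀ u ∈ V, u ^ p = 1) (hfaith : ∀ x ∈ X, (∀ v ∈ V, x * v = v * x) → x = 1)
    (hXc : ∃ a b, Nat.card X = p ^ a * q ^ b) (hO : pCore p X = ⊥) (hAX : A ≤ X)
    (hAc : ∀ x ∈ A, ∀ y ∈ A, x * y = y * x) (hAe : ∀ x ∈ A, x ^ p = 1)
    (hoff : ∀ B ≤ A, ∀ a ∈ A, A = B ⊔ zpowers a →
      Nat.card (V ⊓ centralizer (B : Set Γ) : Subgroup Γ) ≤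
        p * Nat.card (V ⊓ centralizer (A : Set Γ) : Subgroup Γ)) : A = ⊥ := by
  classical
  by_contra hA
  have hs : Group.IsSolvable X := by
    obtain ⟨a, b, hab⟩ := hXc
    exact H4.Burnside.isSolvable_of_card_eq p q hp.out hq.out _ X rfl ⟨a, b, hab⟩
  have hVpg : IsPGroup p V := by
    rintro ⟨w, hw⟩
    exact ⟨1, Subtype.ext (by rw [pow_one]; exact hVp w hw)⟩
  have hApg : IsPGroup p A := by
    rintro ⟨w, hw⟩
    exact ⟨1, Subtype.ext (by rw [pow_one]; exact hAe w hw)⟩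
  -- the `q'`-core is trivial
  have hq' : pPrimeCore q X = ⊥ := by
    have h1 : (Nat.card (pPrimeCore q X)).Coprime q := H1.Cores.coprime_card_pPrimeCore q
    obtain ⟨a, b, hab⟩ := hXc
    have h2 : Nat.card (pPrimeCore q X) ∣ p ^ a := by
      have h3 := Subgroup.card_subgroup_dvd_card (pPrimeCore q X)
      rw [hab] at h3
      exact (Nat.Coprime.pow_right b h1).dvd_of_dvd_mul_right h3
    obtain ⟨n, -, hn⟩ := (Nat.dvd_prime_pow hp.out).1 h2
    have h4 : pPrimeCore q X ≤ pCore p X :=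
      H1.Cores.le_pCore (H1.Cores.pPrimeCore_normal q) (IsPGroup.of_card hn)
    rw [hO] at h4
    exact le_bot_iff.1 h4
  set R : Subgroup X := pCore q X with hR
  have hRn : R.Normal := H1.Cores.pCore_normal q
  have hRp : IsPGroup q R := H1.Cores.isPGroup_pCore q
  have hCR : centralizer (R : Set X) ≤ R := H1.Solv.centralizer_pCore_le hs q hq'
  set A0 : Subgroup X := A.subgroupOf X with hA0
  have hA0p : IsPGroup p A0 := hApg.comap_subtype
  have hcopR : (Nat.card A0).Coprime (Nat.card R) := by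
    obtain ⟨m, hm⟩ := IsPGroup.iff_card.1 hA0p
    obtain ⟨n, hn⟩ := IsPGroup.iff_card.1 hRp
    rw [hm, hn]
    exact Nat.Coprime.pow _ _ ((Nat.coprime_primes hp.out hq.out).2 hpq)
  have hne : ¬ R ≤ centralizer (A0 : Set X) := by
    intro h
    have h1 : A0 ≤ R := by
      refine le_trans ?_ hCR
      intro x hx
      rw [mem_centralizer_iff]
      intro r hr
      exact (mem_centralizer_iff.1 (h hr) x hx).symm
    have h2 : A0 = ⊥ := by
      rw [← Subgroup.card_eq_one]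
      have h3 := Subgroup.card_dvd_of_le h1
      exact Nat.Coprime.eq_one_of_dvd hcopR h3
    apply hA
    rw [eq_bot_iff]
    intro x hx
    have h3 : (⟨x, hAX hx⟩ : X) ∈ A0 := hx
    rw [h2, mem_bot] at h3
    exact congrArg Subtype.val h3
  have hA0c : ∀ x ∈ A0, ∀ y ∈ A0, x * y = y * x := fun x hx y hy => Subtype.ext (hAc x hx y hy)
  obtain ⟨B0, hB0A, a0, ha0A, ha0B, hABa, x0, hx0, hxa⟩ := H52.ThompNPC3.exists_hyperplane (p := p) A0 R hA0c
    (fun x hx => Subtype.ext (hAe x hx)) (by rw [normalizer_eq_top]; exact le_top) hcopR hne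
  set B : Subgroup Γ := B0.map X.subtype with hB
  have hA0map : A0.map X.subtype = A := by
    rw [hA0, subgroupOf_map_subtype, inf_eq_left.2 hAX]
  have hBA : B ≤ A := by rw [← hA0map]; exact map_mono hB0A
  set a : Γ := (a0 : Γ) with ha
  set x : Γ := (x0 : Γ) with hx
  have haA : a ∈ A := ha0A
  have hAB : A = B ⊔ zpowers a := by
    rw [← hA0map, hABa, Subgroup.map_sup, MonoidHom.map_zpowers]
    rfl
  have hBc : ∀ b ∈ B, b * x = x * b := by
    rintro _ ⟨b, hb, rfl⟩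
    exact congrArg Subtype.val (mem_centralizer_iff.1 (mem_inf.1 hx0).2 b hb)
  have hBa : ∀ b ∈ B, b * a = a * b := fun b hb => hAc b (hBA hb) a haA
  set W : Subgroup Γ := V ⊓ centralizer (B : Set Γ) with hW
  have hnorm : ∀ g : Γ, (∀ b ∈ B, b * g = g * b) → g ∈ normalizer (W : Set Γ) := by
    intro g hg
    apply mem_normalizer_fintype
    intro w hw
    refine mem_inf.2 ⟨hVn.conj_mem _ (mem_inf.1 hw).1 g, ?_⟩
    rw [mem_centralizer_iff]
    intro b hb
    have h1 : Commute b g := hg b hb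
    have h2 : Commute b w := mem_centralizer_iff.1 (mem_inf.1 hw).2 b hb
    exact ((h1.mul_right h2).mul_right h1.inv_right).eq
  have hVCA : V ⊓ centralizer (A : Set Γ) = W ⊓ centralizer {a} := by
    ext w
    simp only [hW, mem_inf, mem_centralizer_singleton_iff]
    constructor
    · rintro ⟨h1, h2⟩
      refine ⟨⟨h1, ?_⟩, (mem_centralizer_iff.1 h2 a haA).symm⟩
      rw [mem_centralizer_iff]
      intro b hb
      exact mem_centralizer_iff.1 h2 b (hBA hb)
    · rintro ⟨⟨h1, h2⟩, h3⟩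
      refine ⟨h1, ?_⟩
      have h4 : A ≤ centralizer {w} := by
        rw [hAB]
        refine sup_le ?_ ?_
        · intro b hb
          rw [mem_centralizer_singleton_iff]
          exact mem_centralizer_iff.1 h2 b hb
        · rw [zpowers_le, mem_centralizer_singleton_iff]
          exact h3.symm
      rw [mem_centralizer_iff]
      intro y hy
      exact mem_centralizer_singleton_iff.1 (h4 hy)
  have hidx : (W ⊓ centralizer {a}).relIndex W ≤ p := by
    have h1 := hoff B hBA a haA hAB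
    rw [hVCA] at h1
    have h2 := H14.Repl2.card_mul_relIndex (K := W ⊓ centralizer {a}) (M := W) inf_le_left
    have h3 : 0 < Nat.card (W ⊓ centralizer {a} : Subgroup Γ) := Nat.card_pos
    rw [← h2, mul_comm p] at h1
    exact Nat.le_of_mul_le_mul_left h1 h3
  have hcR : (x0 * a0 * x0⁻¹ * a0⁻¹ : X) ∈ R := by
    have h1 : x0 ∈ R := (mem_inf.1 hx0).1
    have h2 : a0 * x0⁻¹ * a0⁻¹ ∈ R := hRn.conj_mem _ (inv_mem h1) a0
    have e : x0 * a0 * x0⁻¹ * a0⁻¹ = x0 * (a0 * x0⁻¹ * a0⁻¹) := by group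
    rw [e]; exact mul_mem h1 h2
  have hcq : ∃ m, (x * a * x⁻¹ * a⁻¹) ^ q ^ m = 1 := by
    obtain ⟨m, hm⟩ := hRp ⟨_, hcR⟩
    refine ⟨m, ?_⟩
    have h1 : (x0 * a0 * x0⁻¹ * a0⁻¹ : X) ^ q ^ m = 1 := congrArg Subtype.val hm
    exact congrArg Subtype.val h1
  have hcW : ¬ ∀ w ∈ W, (x * a * x⁻¹ * a⁻¹) * w = w * (x * a * x⁻¹ * a⁻¹) := by
    intro h
    have h1 : x * a * x⁻¹ * a⁻¹ ∈ centralizer (V : Set Γ) := by
      refine H52.ThompNPC3.mem_centralizer_of_PQ (p := p) (V := V) (B := B) ?_ hVpg (hApg.to_le hBA) ?_ ?_ ?_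
      · intro w hw
        rw [mem_centralizer_iff]
        intro v hv
        exact hVc v hv w hw
      · obtain ⟨m, hm⟩ := hcq
        apply Nat.Coprime.coprime_dvd_left (orderOf_dvd_of_pow_eq_one hm)
        exact Nat.Coprime.pow_left m ((Nat.coprime_primes hq.out hp.out).2 hpq.symm)
      · intro b hb
        have h2 : Commute b (x * a * x⁻¹ * a⁻¹) := by
          have h3 : Commute b x := hBc b hb
          have h4 : Commute b a := hBa b hb
          exact ((h3.mul_right h4).mul_right h3.inv_right).mul_right h4.inv_right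
        rw [commutatorElement_eq_one_iff_mul_comm.2 h2.eq]
        exact one_mem _
      · intro w hw
        exact (h w hw).symm
    have h2 : x * a * x⁻¹ * a⁻¹ ∈ X := mul_mem (mul_mem (mul_mem x0.2 a0.2) (inv_mem x0.2)) (inv_mem a0.2)
    have h3 := hfaith _ h2 (fun v hv => (mem_centralizer_iff.1 h1 v hv).symm)
    apply hxa
    apply Subtype.ext
    show x * a = a * x
    calc x * a = (x * a * x⁻¹ * a⁻¹) * (a * x) := by group
      _ = a * x := by rw [h3, one_mul]
  have hfin := H76.TwoTrans.two_transv (p := p) (q := q) hpq (W := W) (X := X) (a := a) (x := x)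
    (fun u hu v hv => hVc u (mem_inf.1 hu).1 v (mem_inf.1 hv).1) (fun u hu => hVp u (mem_inf.1 hu).1)
    (hnorm a hBa) (hnorm x hBc) (hAe a haA) hidx hcq hcW a0.2 x0.2
  obtain ⟨m, n, hmn⟩ := hXc
  rw [hmn] at hfin
  exact num_contra hpq h23 hfin

end H76.PushPQ
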