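import Mathlib
import Cfsg.Agent.Lib.H76.PushPQ
import Cfsg.Agent.Lib.H52.SFour2
import Cfsg.Agent.Lib.H13.FFThom

/-! `J(T)` centralizes `⟨Ω₁(Z(T))^L⟩` in `{p,q}`-groups of characteristic `p`, `{p,q} ≠ {2,3}`. -/

set_option autoImplicit false
set_option linter.unusedSectionVars false

namespace H76.PushPQ2

open Subgroup Cfsg H14.MaxIn
open scoped commutatorElement

universe u

variable {p q : ℕ} [hp : Fact p.Prime] [hq : Fact q.Prime]

instance finiteSD {N H : Type*} [Group N] [Group H] [Finite N] [Finite H] (φ : H →* MulAut N) :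
    Finite (N ⋊[φ] H) :=
  Finite.of_injective (fun x => (x.left, x.right)) (fun x y h => by
    simp only [Prod.mk.injEq] at h
    exact SemidirectProduct.ext h.1 h.2)

/-- The counting step in `L`. -/
theorem count {L : Type u} [Group L] [Finite L] {T V A B : Subgroup L} {a : L}
    (hA : A ∈ maxIn true p T) (hVT : V ≤ T) (hVe : PrE true p V) (hBA : B ≤ A) (ha : a ∈ A)
    (hAB : A = B ⊔ zpowers a) :
    Nat.card (V ⊓ centralizer (B : Set L) : Subgroup L) ≤
      p * Nat.card (V ⊓ centralizer (A : Set L) : Subgroup L) := by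
  have hAc : ∀ x ∈ A, ∀ y ∈ A, x * y = y * x := fun x hx y hy => hA.2.1.comm hx hy
  have h1 : Nat.card A ≤ p * Nat.card B := by
    have h2 := H13.Thompson.card_sup_mul_card_inf (A := B) (B := zpowers a) (by
      refine le_trans ?_ (centralizer_le_normalizer _)
      intro x hx
      rw [mem_centralizer_iff]
      intro y hy
      obtain ⟨k, rfl⟩ := mem_zpowers_iff.1 hy
      exact ((show Commute x a from hAc x (hBA hx) a ha).zpow_right k).eq.symm)
    rw [← hAB] at h2
    have h3 : 0 < Nat.card (B ⊓ zpowers a : Subgroup L) := Nat.card_pos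
    have h4 : Nat.card (zpowers a) ≤ p := by
      rw [Nat.card_zpowers]
      exact Nat.le_of_dvd hp.out.pos (orderOf_dvd_of_pow_eq_one (hA.2.1.2 rfl a ha))
    have h5 : 0 < Nat.card B := Nat.card_pos
    nlinarith
  set W := V ⊓ centralizer (B : Set L) with hW
  have hBW : ∀ x ∈ B, ∀ y ∈ W, x * y = y * x := fun x hx y hy =>
    mem_centralizer_iff.1 (mem_inf.1 hy).2 x hx
  have h5 : PrE true p (B ⊔ W) := H52.Offender.prE_sup (hA.2.1.mono hBA) (hVe.mono inf_le_left) hBW
  have h6 := hA.2.2 (B ⊔ W) (sup_le (hBA.trans hA.1) (inf_le_left.trans hVT)) h5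
  have h7 := H13.Thompson.card_sup_mul_card_inf (A := B) (B := W) (by
    refine le_trans ?_ (centralizer_le_normalizer _)
    intro x hx
    rw [mem_centralizer_iff]
    intro y hy
    exact (hBW x hx y hy).symm)
  have h8 : B ⊓ W ≤ V ⊓ centralizer (A : Set L) := by
    intro x hx
    refine mem_inf.2 ⟨(mem_inf.1 (mem_inf.1 hx).2).1, ?_⟩
    rw [mem_centralizer_iff]
    intro y hy
    exact hAc y hy x (hBA (mem_inf.1 hx).1)
  have h9 := Subgroup.card_le_of_le h8
  have h10 : 0 < Nat.card B := Nat.card_pos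
  have h11 : Nat.card B * Nat.card W ≤ Nat.card B * (p * Nat.card (B ⊓ W : Subgroup L)) := by
    rw [← h7]
    calc Nat.card (B ⊔ W : Subgroup L) * Nat.card (B ⊓ W : Subgroup L) ≤
        Nat.card A * Nat.card (B ⊓ W : Subgroup L) := Nat.mul_le_mul_right _ h6
      _ ≤ (p * Nat.card B) * Nat.card (B ⊓ W : Subgroup L) := Nat.mul_le_mul_right _ h1
      _ = Nat.card B * (p * Nat.card (B ⊓ W : Subgroup L)) := by ring
  have h12 := Nat.le_of_mul_le_mul_left h11 h10
  exact h12.trans (Nat.mul_le_mul_left _ h9)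

theorem J_le {L : Type u} [Group L] [Finite L] (hpq : p ≠ q)
    (h23 : ¬ ((p = 2 ∧ q = 3) ∨ (p = 3 ∧ q = 2)))
    (hL : ∃ a b, Nat.card L = p ^ a * q ^ b) (hc : centralizer (pCore p L : Set L) ≤ pCore p L)
    (S : Sylow p L) :
    thompsonSubgroupOf p (S : Subgroup L) ≤
      centralizer ((H13.Omega.omegaClosure p L : Subgroup L) : Set L) := by
  classical
  rw [H52.SFour.thompsonOf_le_iff]
  intro A hA
  set V := H13.Omega.omegaClosure p L with hV
  have hVn : V.Normal := H13.Omega.omegaClosure_normal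
  have hVe : IsElementaryAbelian p V := H13.Omega.isElementaryAbelian_omegaClosure hc
  have hVc : V ≤ centralizer (V : Set L) := H13.ElemAb.le_centralizer hVe
  have hVp : IsPGroup p V := H13.ElemAb.isPGroup hVe
  have hVS : V ≤ (S : Subgroup L) := (H1.Cores.le_pCore hVn hVp).trans (H1.Cores.pCore_le_sylow S)
  let ψ : L →* MulAut V := MulAut.conjNormal
  let f : L →* V ⋊[MonoidHom.id (MulAut V)] MulAut V := SemidirectProduct.inr.comp ψ
  have hfk : ∀ x, f x = 1 ↔ x ∈ centralizer (V : Set L) := by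
    intro x
    rw [mem_centralizer_iff]
    constructor
    · intro h v hv
      have h1 : ψ x = 1 := SemidirectProduct.inr_injective (by rw [map_one]; exact h)
      have h2 : (ψ x ⟨v, hv⟩ : L) = v := by rw [h1]; rfl
      have h3 : (ψ x ⟨v, hv⟩ : L) = x * v * x⁻¹ := MulAut.conjNormal_apply x ⟨v, hv⟩
      rw [h3] at h2
      calc v * x = (x * v * x⁻¹) * x := by rw [h2]
        _ = x * v := by group
    · intro h
      have h1 : ψ x = 1 := by
        ext v
        have h3 : (ψ x v : L) = x * v * x⁻¹ := MulAut.conjNormal_apply x v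
        rw [h3, ← h v v.2]
        simp
      show SemidirectProduct.inr (ψ x) = 1
      rw [h1, map_one]
  have hact : ∀ (x : L) (v : V), f x * SemidirectProduct.inl v * (f x)⁻¹ =
      SemidirectProduct.inl (ψ x v) := by
    intro x v
    have := SemidirectProduct.inl_aut (φ := MonoidHom.id (MulAut V)) (ψ x) v
    rw [MonoidHom.id_apply, map_inv] at this
    exact this.symm
  set VΓ : Subgroup (V ⋊[MonoidHom.id (MulAut V)] MulAut V) := SemidirectProduct.inl.range with hVΓ
  have hVΓn : VΓ.Normal := by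
    rw [hVΓ, SemidirectProduct.range_inl_eq_ker_rightHom]
    infer_instance
  have hX := H13.FFThom.pCore_eq_bot_of (p := p) f.rangeRestrict f.rangeRestrict_surjective
    (centralizer (V : Set L)) (fun x => by
      rw [← hfk x]
      constructor
      · intro h; exact congrArg Subtype.val h
      · intro h; exact Subtype.ext h) (by
      exact H13.FFThom.pCore_omegaClosure)
  have hcomm_iff : ∀ (x : L) (v : V), (f x * SemidirectProduct.inl v = SemidirectProduct.inl v * f x) ↔
      x * v = v * x := by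
    intro x v
    have h3 : (ψ x v : L) = x * v * x⁻¹ := MulAut.conjNormal_apply x v
    constructor
    · intro h
      have h1 : f x * SemidirectProduct.inl v * (f x)⁻¹ = SemidirectProduct.inl v := by
        rw [h]; group
      rw [hact] at h1
      have h2 := SemidirectProduct.inl_injective h1
      have h4 : x * v * x⁻¹ = v := by rw [← h3, h2]
      calc x * v = (x * v * x⁻¹) * x := by group
        _ = v * x := by rw [h4]
    · intro h
      have h4 : ψ x v = v := by
        apply Subtype.ext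
        rw [h3, h]
        group
      have h1 := hact x v
      rw [h4] at h1
      calc f x * SemidirectProduct.inl v = (f x * SemidirectProduct.inl v * (f x)⁻¹) * f x := by group
        _ = SemidirectProduct.inl v * f x := by rw [h1]
  -- cardinalities of centralizers
  have hcard : ∀ B : Subgroup L, Nat.card (VΓ ⊓ centralizer ((B.map f : Subgroup _) : Set _) : Subgroup _) =
      Nat.card (V ⊓ centralizer (B : Set L) : Subgroup L) := by
    intro B
    have h1 : (VΓ ⊓ centralizer ((B.map f : Subgroup _) : Set _) : Subgroup _) =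
        ((V ⊓ centralizer (B : Set L)).subgroupOf V).map SemidirectProduct.inl := by
      ext y
      constructor
      · rintro ⟨⟨v, rfl⟩, h2⟩
        refine ⟨v, ?_, rfl⟩
        show (v : L) ∈ V ⊓ centralizer (B : Set L)
        refine mem_inf.2 ⟨v.2, ?_⟩
        rw [mem_centralizer_iff]
        intro b hb
        have h3 := mem_centralizer_iff.1 h2 (f b) ⟨b, hb, rfl⟩
        exact (hcomm_iff b v).1 h3
      · rintro ⟨v, hv, rfl⟩
        refine mem_inf.2 ⟨⟨v, rfl⟩, ?_⟩
        rw [mem_centralizer_iff]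
        rintro _ ⟨b, hb, rfl⟩
        exact (hcomm_iff b v).2 (mem_centralizer_iff.1 (mem_inf.1 hv).2 b hb)
    rw [h1, card_map_of_injective SemidirectProduct.inl_injective]
    exact Nat.card_congr (subgroupOfEquivOfLe inf_le_left).toEquiv
  have hfin := H76.PushPQ.off (p := p) (q := q) hpq h23 (V := VΓ) (X := f.range) (A := A.map f) ?_ ?_ ?_ ?_ hX
    (by rintro _ ⟨x, -, rfl⟩; exact ⟨x, rfl⟩) ?_ ?_ ?_
  · -- conclusion
    intro x hx
    rw [← hfk]
    have h1 : f x ∈ A.map f := ⟨x, hx, rfl⟩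
    rw [hfin, mem_bot] at h1
    exact h1
  · rintro _ ⟨u, rfl⟩ _ ⟨v, rfl⟩
    rw [← map_mul, ← map_mul]
    congr 1
    exact Subtype.ext (mem_centralizer_iff.1 (hVc v.2) u u.2)
  · rintro _ ⟨u, rfl⟩
    rw [← map_pow]
    have : u ^ p = 1 := Subtype.ext (hVe.2 u u.2)
    rw [this, map_one]
  · rintro _ ⟨x, rfl⟩ h
    rw [hfk, mem_centralizer_iff]
    intro v hv
    exact ((hcomm_iff x ⟨v, hv⟩).1 (h _ ⟨⟨v, hv⟩, rfl⟩)).symm
  · obtain ⟨a, b, hab⟩ := hL
    have h1 : Nat.card f.range ∣ p ^ a * q ^ b := by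
      rw [← hab]; exact Subgroup.card_range_dvd f
    obtain ⟨m, n, hm, hn, hmn⟩ := exists_dvd_and_dvd_of_dvd_mul h1
    obtain ⟨a', -, ha'⟩ := (Nat.dvd_prime_pow hp.out).1 hm
    obtain ⟨b', -, hb'⟩ := (Nat.dvd_prime_pow hq.out).1 hn
    exact ⟨a', b', by rw [hmn, ha', hb']⟩
  · rintro _ ⟨x, hx, rfl⟩ _ ⟨y, hy, rfl⟩
    rw [← map_mul, hA.2.1.comm hx hy, map_mul]
  · rintro _ ⟨x, hx, rfl⟩
    rw [← map_pow, hA.2.1.2 rfl x hx, map_one]
  · intro B hB a ha hAB
    obtain ⟨a0, ha0, rfl⟩ := ha
    set B0 := A ⊓ B.comap f with hB0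
    have hB0m : B0.map f = B := by
      apply le_antisymm
      · rintro _ ⟨x, hx, rfl⟩
        exact (mem_inf.1 hx).2
      · intro b hb
        obtain ⟨x, hx, rfl⟩ := hB hb
        exact ⟨x, mem_inf.2 ⟨hx, hb⟩, rfl⟩
    have hA0 : A = B0 ⊔ zpowers a0 := by
      apply le_antisymm
      · intro x hx
        have h1 : f x ∈ A.map f := ⟨x, hx, rfl⟩
        rw [hAB, ← hB0m, ← MonoidHom.map_zpowers, ← Subgroup.map_sup] at h1
        obtain ⟨y, hy, hyx⟩ := h1
        have hyA : y ∈ A := by
          have : B0 ⊔ zpowers a0 ≤ A := sup_le inf_le_left (by rw [zpowers_le]; exact ha0)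
          exact this hy
        have h2 : x * y⁻¹ ∈ B0 := by
          refine mem_inf.2 ⟨mul_mem hx (inv_mem hyA), ?_⟩
          show f (x * y⁻¹) ∈ B
          rw [map_mul, map_inv, ← hyx, mul_inv_cancel]
          exact one_mem _
        have h3 : x = (x * y⁻¹) * y := by group
        rw [h3]
        exact mul_mem (mem_sup_left h2) hy
      · exact sup_le inf_le_left (by rw [zpowers_le]; exact ha0)
    rw [← hB0m, hcard, hcard]
    exact count hA hVS ⟨⟨⟨fun x y => Subtype.ext (mem_centralizer_iff.1 (hVc y.2) x x.2)⟩⟩,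
      fun _ => hVe.2⟩ inf_le_left ha0 hA0

end H76.PushPQ2
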