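import Mathlib
import Cfsg.Agent.Lib.H76.PushPQ2
import Cfsg.Agent.Lib.H52.ThompNPC2

/-! A nonidentity characteristic subgroup of `T` with nontrivial `q`-automizer. -/

set_option autoImplicit false
set_option linter.unusedSectionVars false

namespace H76.PushPQ3

open Subgroup Cfsg H14.MaxIn H38.Basic
open scoped commutatorElement

universe u

variable {p q : ℕ} [hp : Fact p.Prime] [hq : Fact q.Prime]

/-- some `q`-element normalizes but does not centralize `K` -/
def Auto {G : Type*} [Group G] (q : ℕ) (K : Subgroup G) : Prop :=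
  ∃ y ∈ normalizer (K : Set G), y ∉ centralizer (K : Set G) ∧ ∃ m, y ^ q ^ m = 1

theorem char_comap {A B : Type*} [Group A] [Group B] (f : A →* B) (hf : Function.Surjective f)
    (hk : f.ker.Characteristic) (K : Subgroup B) [hK : K.Characteristic] :
    (K.comap f).Characteristic := by
  rw [characteristic_iff_le_comap]
  intro φ x hx
  let e : A ⧸ f.ker ≃* B := QuotientGroup.quotientKerEquivOfSurjective f hf
  have he : ∀ y : A, e (QuotientGroup.mk y) = f y := fun y => rfl
  have hφ : f.ker.map φ.toMonoidHom = f.ker := characteristic_iff_map_eq.1 hk φ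
  let φ' : A ⧸ f.ker ≃* A ⧸ f.ker := QuotientGroup.congr _ _ φ hφ
  have hφ' : ∀ y : A, φ' (QuotientGroup.mk y) = QuotientGroup.mk (φ y) := fun y => rfl
  let ψ : B ≃* B := (e.symm.trans φ').trans e
  have h1 : ψ (f x) = f (φ x) := by
    show e (φ' (e.symm (f x))) = f (φ x)
    rw [← he x, e.symm_apply_apply, hφ', he]
  show f (φ x) ∈ K
  rw [← h1]
  have h2 := characteristic_iff_le_comap.1 hK ψ
  exact h2 hx

/-- `Ω₁(Z(S))` as a characteristic subgroup of `S`. -/
def Om (p : ℕ) (S : Type*) [Group S] : Subgroup S where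
  carrier := {x | x ∈ center S ∧ x ^ p = 1}
  one_mem' := ⟨one_mem _, one_pow _⟩
  mul_mem' := by
    rintro x y ⟨hx, hx1⟩ ⟨hy, hy1⟩
    refine ⟨mul_mem hx hy, ?_⟩
    have h : Commute x y := (mem_center_iff.1 hy x)
    rw [h.mul_pow, hx1, hy1, one_mul]
  inv_mem' := by
    rintro x ⟨hx, hx1⟩
    exact ⟨inv_mem hx, by rw [inv_pow, hx1, inv_one]⟩

theorem mem_Om {S : Type*} [Group S] {x : S} : x ∈ Om p S ↔ x ∈ center S ∧ x ^ p = 1 := Iff.rfl

instance Om_char (S : Type*) [Group S] : (Om p S).Characteristic := by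
  rw [characteristic_iff_le_comap]
  intro φ x hx
  refine ⟨?_, ?_⟩
  · rw [mem_center_iff]
    intro y
    obtain ⟨z, rfl⟩ := φ.surjective y
    have := mem_center_iff.1 hx.1 z
    show φ z * φ x = φ x * φ z
    rw [← map_mul, this, map_mul]
  · show (φ x) ^ p = 1
    rw [← map_pow, hx.2, map_one]

theorem Om_ne_bot {S : Type*} [Group S] [Finite S] (hS : IsPGroup p S) [Nontrivial S] : Om p S ≠ ⊥ := by
  have := hS.center_nontrivial
  have h1 : p ∣ Nat.card (center S) := by
    have h2 : IsPGroup p (center S) := hS.to_subgroup _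
    exact (h2.card_eq_or_dvd).resolve_left (by
      intro h
      have := Finite.one_lt_card (α := center S)
      omega)
  obtain ⟨z, hz⟩ := exists_prime_orderOf_dvd_card' p h1
  intro hb
  have h3 : (z : S) ∈ Om p S := by
    refine ⟨z.2, ?_⟩
    have h4 : z ^ p = 1 := by rw [← hz]; exact pow_orderOf_eq_one z
    exact congrArg Subtype.val h4
  rw [hb, mem_bot] at h3
  have h4 : z = 1 := Subtype.ext h3
  rw [h4, orderOf_one] at hz
  exact hp.out.one_lt.ne hz

/-- Sylow subgroups generate -/
theorem le_of_syl {L : Type*} [Group L] [Finite L] {N D S Q : Subgroup L}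
    (hL : ∃ a b, Nat.card L = p ^ a * q ^ b) (hS : IsSyl p S N) (hQ : IsSyl q Q N) (hSD : S ≤ D)
    (hQD : Q ≤ D) : N ≤ D := by
  have h1 : ¬ p ∣ D.relIndex N := fun h => hS.2.2 (h.trans (relIndex_dvd_of_le_left N hSD))
  have h2 : ¬ q ∣ D.relIndex N := fun h => hQ.2.2 (h.trans (relIndex_dvd_of_le_left N hQD))
  obtain ⟨a, b, hab⟩ := hL
  have h3 : D.relIndex N ∣ p ^ a * q ^ b := by
    rw [← hab]
    exact (index_dvd_card (D.subgroupOf N)).trans (card_subgroup_dvd_card N)
  have h4 : (D.relIndex N).Coprime (p ^ a) :=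
    Nat.Coprime.pow_right a ((Nat.Prime.coprime_iff_not_dvd hp.out).2 h1).symm
  have h5 : (D.relIndex N).Coprime (q ^ b) :=
    Nat.Coprime.pow_right b ((Nat.Prime.coprime_iff_not_dvd hq.out).2 h2).symm
  have h6 : D.relIndex N = 1 := Nat.Coprime.eq_one_of_dvd (h4.mul_right h5) h3
  exact relIndex_eq_one.1 h6

/-- characteristic `p` passes to the quotient by a central elementary abelian subgroup -/
theorem char_quot {L L' : Type*} [Group L] [Finite L] [Group L'] (hc : centralizer (pCore p L : Set L) ≤ pCore p L)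
    (π : L →* L') (hπ : Function.Surjective π) (hk : ∀ z ∈ π.ker, z ^ p = 1 ∧ ∀ g, g * z = z * g) :
    centralizer (pCore p L' : Set L') ≤ pCore p L' := by
  set C := centralizer (pCore p L' : Set L') with hC
  have hCn : C.Normal := inferInstance
  have h1 : (pCore p L).map π ≤ pCore p L' := H1.Cores.map_pCore_le p π hπ
  have h2 : IsPGroup p (C.comap π) := by
    apply H52.ThompNPC2.isPGroup_of_coprime_eq_one
    intro y hy hyo
    have h3 : y ∈ pCore p L := by
      apply hc
      rw [mem_centralizer_iff]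
      intro x hx
      -- `x⁻¹ y⁻¹ x y` is in the kernel
      have h4 : y * x * y⁻¹ * x⁻¹ ∈ π.ker := by
        rw [MonoidHom.mem_ker, map_mul, map_mul, map_mul, map_inv, map_inv]
        have h5 : π x * π y = π y * π x := mem_centralizer_iff.1 hy (π x) (h1 ⟨x, hx, rfl⟩)
        rw [← h5]; group
      obtain ⟨h5, h6⟩ := hk _ h4
      set z := y * x * y⁻¹ * x⁻¹ with hz
      have h7 : ∀ n : ℕ, y ^ n * x * (y ^ n)⁻¹ = z ^ n * x := by
        intro n
        induction n with
        | zero => simp
        | succ n ih =>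
          have e1 : y ^ (n + 1) * x * (y ^ (n + 1))⁻¹ = y * (y ^ n * x * (y ^ n)⁻¹) * y⁻¹ := by
            rw [pow_succ']; group
          have e2 : y * z ^ n = z ^ n * y := ((show Commute y z from h6 y).pow_right n).eq
          rw [e1, ih]
          calc y * (z ^ n * x) * y⁻¹ = (y * z ^ n) * x * y⁻¹ := by group
            _ = z ^ n * (y * x * y⁻¹ * x⁻¹) * x := by rw [e2]; group
            _ = z ^ (n + 1) * x := by rw [← hz, pow_succ]
      have h8 := h7 (orderOf y)
      rw [pow_orderOf_eq_one] at h8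
      have h9 : z ^ orderOf y = 1 := by
        have : z ^ orderOf y * x = 1 * x := by rw [← h8]; group
        exact mul_right_cancel this
      have h10 : z = 1 := by
        have h11 : orderOf z ∣ 1 := by
          rw [← (hyo : Nat.gcd _ _ = 1)]
          exact Nat.dvd_gcd (orderOf_dvd_of_pow_eq_one h9) (orderOf_dvd_of_pow_eq_one h5)
        rw [Nat.dvd_one, orderOf_eq_one_iff] at h11
        exact h11
      calc x * y = 1 * x * y := by group
        _ = z * x * y := by rw [h10]
        _ = y * x := by rw [hz]; group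
    exact H38.PPrime.eq_one_of_coprime_of_isPGroup (H1.Cores.isPGroup_pCore p) h3 hyo
  have h3 : C.comap π ≤ pCore p L := H1.Cores.le_pCore inferInstance h2
  calc C = (C.comap π).map π := (map_comap_eq_self_of_surjective hπ C).symm
    _ ≤ (pCore p L).map π := map_mono h3
    _ ≤ pCore p L' := h1

/-- lifting `Auto` -/
theorem auto_comap {L L' : Type*} [Group L] [Group L'] (hpq : p ≠ q)
    (π : L →* L') (hπ : Function.Surjective π) (hk : ∀ z ∈ π.ker, z ^ p = 1) (K : Subgroup L') (h : Auto q K) :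
    Auto q (K.comap π) := by
  obtain ⟨y', h1, h2, m, h3⟩ := h
  obtain ⟨y, rfl⟩ := hπ y'
  have h4 : y ^ q ^ m ∈ π.ker := by rw [MonoidHom.mem_ker, map_pow, h3]
  have h5 := hk _ h4
  have hcop : Nat.Coprime (q ^ m) p := Nat.Coprime.pow_left m ((Nat.coprime_primes hq.out hp.out).2 hpq.symm)
  obtain ⟨r, hr1, hr2⟩ := Nat.chineseRemainder hcop 1 0
  have h6 : π (y ^ r) = π y := by
    have h7 : (π y) ^ r = (π y) ^ 1 := by
      rw [pow_eq_pow_iff_modEq]
      exact hr1.of_dvd (orderOf_dvd_of_pow_eq_one h3)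
    rw [map_pow, h7, pow_one]
  refine ⟨y ^ r, ?_, ?_, m, ?_⟩
  · have h8 : normalizer (((K.comap π : Subgroup L)) : Set L) = (normalizer (K : Set L')).comap π :=
      (comap_normalizer_eq_of_surjective K hπ).symm
    rw [h8, mem_comap, h6]
    exact h1
  · intro h8
    apply h2
    rw [mem_centralizer_iff] at h8 ⊢
    intro k hk'
    obtain ⟨k0, rfl⟩ := hπ k
    have := h8 k0 hk'
    rw [← h6, ← map_mul, this, map_mul]
  · rw [← pow_mul, mul_comm, pow_mul]
    obtain ⟨s, hs⟩ := (Nat.modEq_zero_iff_dvd).1 hr2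
    rw [hs, pow_mul, h5, one_pow]

end H76.PushPQ3
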