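import Mathlib
import Cfsg.Agent.Lib.H76.PushPQ3

/-! A characteristic subgroup of `T` with nontrivial `q`-automizer. -/

set_option autoImplicit false
set_option linter.unusedSectionVars false

namespace H76.PushPQ4

open Subgroup Cfsg H14.MaxIn H38.Basic H76.PushPQ3
open scoped commutatorElement

universe u

variable {p q : ℕ} [hp : Fact p.Prime] [hq : Fact q.Prime]

theorem star (hpq : p ≠ q) (h23 : ¬ ((p = 2 ∧ q = 3) ∨ (p = 3 ∧ q = 2))) :
    ∀ (n : ℕ) (L : Type u) [Group L] [Finite L], Nat.card L ≤ n → (∃ a b, Nat.card L = p ^ a * q ^ b) →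
    centralizer (pCore p L : Set L) ≤ pCore p L → q ∣ Nat.card L → ∀ S : Sylow p L,
    ∃ K0 : Subgroup (S : Subgroup L), K0.Characteristic ∧ Auto q (K0.map (S : Subgroup L).subtype) := by
  intro n
  induction n with
  | zero =>
    intro L _ _ hn
    have := Nat.card_pos (α := L)
    omega
  | succ n ih =>
    intro L _ _ hn hL hc hqL S
    set V := H13.Omega.omegaClosure p L with hV
    have hVn : V.Normal := H13.Omega.omegaClosure_normal
    have hJC := H76.PushPQ2.J_le hpq h23 hL hc S
    rw [← hV] at hJC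
    set C := centralizer (V : Set L) with hC
    set J := thompsonSubgroupOf p (S : Subgroup L) with hJ
    by_cases hJA : Auto q J
    · exact ⟨thompsonSubgroup p (S : Subgroup L), inferInstance, hJA⟩
    have hJA' : ∀ y ∈ normalizer (J : Set L), (∃ m, y ^ q ^ m = 1) → y ∈ centralizer (J : Set L) := by
      intro y hy hm
      by_contra h
      exact hJA ⟨y, hy, h, hm⟩
    -- `S ≠ 1`
    have hSne : Nontrivial (S : Subgroup L) := by
      rw [nontrivial_iff_ne_bot]
      intro hb
      have h1 : pCore p L = ⊥ := le_bot_iff.1 (hb ▸ H1.Cores.pCore_le_sylow S)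
      rw [h1] at hc
      have h2 : (⊤ : Subgroup L) ≤ ⊥ := by
        refine le_trans ?_ hc
        intro x _
        rw [mem_centralizer_iff]
        intro y hy
        rw [mem_bot.1 hy, one_mul, mul_one]
      have h3 : Nat.card L = 1 := by
        rw [← card_top, le_bot_iff.1 h2, card_bot]
      rw [h3] at hqL
      exact hq.out.one_lt.ne' (Nat.dvd_one.1 hqL)
    set Ω0 : Subgroup (S : Subgroup L) := Om p (S : Subgroup L) with hΩ0
    set Ω : Subgroup L := Ω0.map (S : Subgroup L).subtype with hΩ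
    have hΩne : Ω ≠ ⊥ := by
      intro h
      rw [hΩ, Subgroup.map_eq_bot_iff_of_injective _ (S : Subgroup L).subtype_injective] at h
      exact Om_ne_bot S.2 h
    have hΩS : Ω ≤ (S : Subgroup L) := map_subtype_le _
    have hΩc : ∀ z ∈ Ω, ∀ x ∈ (S : Subgroup L), x * z = z * x := by
      rintro _ ⟨z, hz, rfl⟩ x hx
      exact congrArg Subtype.val (mem_center_iff.1 hz.1 ⟨x, hx⟩)
    have hΩp : ∀ z ∈ Ω, z ^ p = 1 := by
      rintro _ ⟨z, hz, rfl⟩
      exact congrArg Subtype.val hz.2
    have hΩe : PrE true p Ω := prE_of (fun x hx y hy => hΩc y hy x (hΩS hx)) (fun _ => hΩp)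
    have hΩV : Ω ≤ V := by
      intro z hz
      apply H13.Omega.omegaZ_le_omegaClosure S
      apply H13.Omega.mem_omegaOne_of _ (hΩp z hz)
      exact mem_inf.2 ⟨hΩS hz, mem_centralizer_iff.2 (fun x hx => hΩc z hz x hx)⟩
    have hΩJ : Ω ≤ J := by
      obtain ⟨A, hA⟩ := maxIn_nonempty true p (S : Subgroup L)
      have h1 : PrE true p (A ⊔ Ω) := H52.Offender.prE_sup hA.2.1 hΩe
        (fun x hx y hy => hΩc y hy x (hA.1 hx))
      have h2 := hA.2.2 (A ⊔ Ω) (sup_le hA.1 hΩS) h1
      have h3 : A = A ⊔ Ω := Subgroup.eq_of_le_of_card_ge le_sup_left h2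
      have h4 : Ω ≤ A := by rw [h3]; exact le_sup_right
      refine h4.trans ?_
      rw [hJ, H52.SFour.thompsonOf_eq]
      exact le_sSup hA
    -- factorization
    have hTJ : thompsonSubgroupOf p ((S : Subgroup L) ⊓ C) = J :=
      H52.SFour2.thompsonOf_eq_of_le (le_inf (H13.SylowN.thompsonOf_le _) hJC) inf_le_left
    have hfr : normalizer (J : Set L) ⊔ C = ⊤ := by
      rw [eq_top_iff, ← H13.SylowN.frattini S C]
      refine sup_le_sup ?_ le_rfl
      rw [← hTJ]
      exact H13.SylowN.normalizer_le_normalizer_thompsonOf _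
    -- `Ω` is central
    have hNΩ : normalizer (J : Set L) ≤ centralizer (Ω : Set L) := by
      have hSN : IsSyl p (S : Subgroup L) (normalizer (J : Set L)) := by
        refine (isSyl_sylow S).of_le ?_ le_top
        exact le_normalizer.trans (H13.SylowN.normalizer_le_normalizer_thompsonOf _)
      obtain ⟨Q, hQ⟩ := exists_isSyl (p := q) (normalizer (J : Set L))
      refine le_of_syl hL hSN hQ ?_ ?_
      · intro x hx
        rw [mem_centralizer_iff]
        intro z hz
        exact (hΩc z hz x hx).symm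
      · intro y hy
        have h1 : y ∈ centralizer (J : Set L) := by
          apply hJA' y (hQ.1 hy)
          obtain ⟨m, hm⟩ := hQ.2.1 ⟨y, hy⟩
          exact ⟨m, congrArg Subtype.val hm⟩
        exact centralizer_le (SetLike.coe_subset_coe.2 hΩJ) h1
    have hΩtop : (⊤ : Subgroup L) ≤ centralizer (Ω : Set L) := by
      rw [← hfr]
      exact sup_le hNΩ (centralizer_le (SetLike.coe_subset_coe.2 hΩV))
    have hΩcen : ∀ z ∈ Ω, ∀ g : L, g * z = z * g := fun z hz g =>
      (mem_centralizer_iff.1 (hΩtop (mem_top g)) z hz).symm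
    have hΩn : Ω.Normal := ⟨fun z hz g => by
      have : g * z * g⁻¹ = z := by rw [hΩcen z hz g]; group
      rw [this]; exact hz⟩
    -- quotient
    set π := QuotientGroup.mk' Ω with hπ
    have hπs : Function.Surjective π := QuotientGroup.mk'_surjective Ω
    have hker : π.ker = Ω := QuotientGroup.ker_mk' Ω
    have hcardmul : Nat.card Ω * Nat.card (L ⧸ Ω) = Nat.card L := by
      have h1 := Ω.card_mul_index
      rwa [index_eq_card] at h1
    have hΩpg : IsPGroup p Ω := S.2.to_le hΩS
    have hcard : Nat.card (L ⧸ Ω) ≤ n := by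
      have h2 : 1 < Nat.card Ω := by
        have h3 : Nat.card Ω ≠ 1 := fun h => hΩne (Subgroup.card_eq_one.mp h)
        have h4 := Nat.card_pos (α := Ω)
        omega
      have h3 : 0 < Nat.card (L ⧸ Ω) := Nat.card_pos
      nlinarith
    have hL' : ∃ a b, Nat.card (L ⧸ Ω) = p ^ a * q ^ b := by
      obtain ⟨a, b, hab⟩ := hL
      have h1 : Nat.card (L ⧸ Ω) ∣ p ^ a * q ^ b := by
        rw [← hab, ← hcardmul]; exact dvd_mul_left _ _
      obtain ⟨m, n, hm, hn, hmn⟩ := exists_dvd_and_dvd_of_dvd_mul h1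
      obtain ⟨a', -, ha'⟩ := (Nat.dvd_prime_pow hp.out).1 hm
      obtain ⟨b', -, hb'⟩ := (Nat.dvd_prime_pow hq.out).1 hn
      exact ⟨a', b', by rw [hmn, ha', hb']⟩
    have hc' := char_quot hc π hπs (by
      intro z hz
      rw [hker] at hz
      exact ⟨hΩp z hz, hΩcen z hz⟩)
    have hqL' : q ∣ Nat.card (L ⧸ Ω) := by
      rw [← hcardmul] at hqL
      refine (Nat.Coprime.dvd_of_dvd_mul_left ?_ hqL)
      obtain ⟨m, hm⟩ := hΩpg.exists_card_eq
      rw [hm]
      exact Nat.Coprime.pow_right m ((Nat.coprime_primes hq.out hp.out).2 hpq.symm)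
    set S' : Sylow p (L ⧸ Ω) := S.mapSurjective hπs with hS'
    obtain ⟨K0, hK0c, hK0⟩ := ih (L ⧸ Ω) hcard hL' hc' hqL' S'
    have hS'eq : (S' : Subgroup (L ⧸ Ω)) = (S : Subgroup L).map π := rfl
    -- the map `S → S'`
    let f : (S : Subgroup L) →* (S' : Subgroup (L ⧸ Ω)) :=
      (π.comp (S : Subgroup L).subtype).codRestrict _ (fun x => ⟨x, x.2, rfl⟩)
    have hf : ∀ x, ((f x : (S' : Subgroup (L ⧸ Ω))) : L ⧸ Ω) = π x := fun x => rfl
    have hfs : Function.Surjective f := by
      rintro ⟨_, x, hx, rfl⟩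
      exact ⟨⟨x, hx⟩, rfl⟩
    have hfk : f.ker = Ω0 := by
      ext x
      rw [MonoidHom.mem_ker]
      constructor
      · intro h
        have h1 : (x : L) ∈ Ω := by
          rw [← hker, MonoidHom.mem_ker, ← hf x, h]; rfl
        obtain ⟨y, hy, hyx⟩ := h1
        have : y = x := Subtype.ext hyx
        rw [← this]; exact hy
      · intro h
        apply Subtype.ext
        rw [hf x]
        show π x = 1
        rw [← MonoidHom.mem_ker, hker]
        exact ⟨x, h, rfl⟩
    refine ⟨K0.comap f, char_comap f hfs (by rw [hfk]; infer_instance) K0, ?_⟩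
    have h1 : (K0.comap f).map (S : Subgroup L).subtype = (K0.map (S' : Subgroup (L ⧸ Ω)).subtype).comap π := by
      ext x
      constructor
      · rintro ⟨y, hy, rfl⟩
        exact ⟨f y, hy, rfl⟩
      · rintro ⟨⟨z, hzS⟩, hz, hzx⟩
        have hzx' : z = π x := hzx
        subst hzx'
        obtain ⟨w, hw, hwx⟩ := hzS
        have h2 : w⁻¹ * x ∈ Ω := by
          rw [← hker, MonoidHom.mem_ker, map_mul, map_inv, hwx, inv_mul_cancel]
        have h3 : x ∈ (S : Subgroup L) := by
          have : x = w * (w⁻¹ * x) := by group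
          rw [this]; exact mul_mem hw (hΩS h2)
        exact ⟨⟨x, h3⟩, hz, rfl⟩
    rw [h1]
    exact auto_comap hpq π hπs (fun z hz => hΩp z (by rw [hker] at hz; exact hz)) _ hK0

end H76.PushPQ4
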