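import Cfsg.Agent.Lib.H63.U3Act

/-!
# A table of 168 unitary matrices over the field with nine elements
-/

set_option autoImplicit false
set_option linter.all false
set_option maxRecDepth 10000

namespace H76.U33

open H63.U3 Matrix Cfsg

/-- field element -/
def k0 : K := ⟨0, 0⟩
/-- field element -/
def k1 : K := ⟨1, 0⟩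
/-- field element -/
def k2 : K := ⟨2, 0⟩
/-- field element -/
def k3 : K := ⟨0, 1⟩
/-- field element -/
def k4 : K := ⟨1, 1⟩
/-- field element -/
def k5 : K := ⟨2, 1⟩
/-- field element -/
def k6 : K := ⟨0, 2⟩
/-- field element -/
def k7 : K := ⟨1, 2⟩
/-- field element -/
def k8 : K := ⟨2, 2⟩

/-- columns of the matrices -/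
def tab : List (T3 × T3 × T3) := [
  (⟨k1, k0, k0⟩, ⟨k0, k1, k0⟩, ⟨k0, k0, k1⟩),
  (⟨k1, k0, k0⟩, ⟨k0, k2, k0⟩, ⟨k0, k0, k2⟩),
  (⟨k8, k4, k0⟩, ⟨k2, k2, k5⟩, ⟨k1, k1, k5⟩),
  (⟨k8, k4, k0⟩, ⟨k1, k1, k7⟩, ⟨k2, k2, k7⟩),
  (⟨k8, k8, k0⟩, ⟨k2, k1, k7⟩, ⟨k1, k2, k7⟩),
  (⟨k5, k2, k1⟩, ⟨k7, k2, k1⟩, ⟨k0, k8, k8⟩),
  (⟨k8, k8, k0⟩, ⟨k1, k2, k5⟩, ⟨k2, k1, k5⟩),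
  (⟨k5, k2, k1⟩, ⟨k5, k1, k2⟩, ⟨k0, k4, k4⟩),
  (⟨k1, k7, k2⟩, ⟨k1, k5, k2⟩, ⟨k4, k0, k4⟩),
  (⟨k5, k1, k2⟩, ⟨k7, k1, k2⟩, ⟨k0, k4, k4⟩),
  (⟨k1, k7, k2⟩, ⟨k2, k7, k1⟩, ⟨k8, k0, k8⟩),
  (⟨k5, k1, k2⟩, ⟨k5, k2, k1⟩, ⟨k0, k8, k8⟩),
  (⟨k1, k5, k1⟩, ⟨k1, k7, k1⟩, ⟨k4, k0, k8⟩),
  (⟨k0, k8, k4⟩, ⟨k5, k1, k1⟩, ⟨k7, k1, k1⟩),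
  (⟨k0, k2, k0⟩, ⟨k2, k0, k0⟩, ⟨k0, k0, k2⟩),
  (⟨k1, k5, k1⟩, ⟨k2, k5, k2⟩, ⟨k8, k0, k4⟩),
  (⟨k0, k8, k4⟩, ⟨k7, k2, k2⟩, ⟨k5, k2, k2⟩),
  (⟨k0, k2, k0⟩, ⟨k1, k0, k0⟩, ⟨k0, k0, k1⟩),
  (⟨k4, k0, k8⟩, ⟨k2, k7, k2⟩, ⟨k2, k5, k2⟩),
  (⟨k0, k4, k8⟩, ⟨k5, k2, k2⟩, ⟨k7, k2, k2⟩),
  (⟨k0, k1, k0⟩, ⟨k2, k0, k0⟩, ⟨k0, k0, k1⟩),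
  (⟨k1, k1, k7⟩, ⟨k4, k8, k0⟩, ⟨k2, k2, k7⟩),
  (⟨k4, k0, k8⟩, ⟨k1, k5, k1⟩, ⟨k1, k7, k1⟩),
  (⟨k0, k4, k8⟩, ⟨k7, k1, k1⟩, ⟨k5, k1, k1⟩),
  (⟨k0, k1, k0⟩, ⟨k1, k0, k0⟩, ⟨k0, k0, k2⟩),
  (⟨k1, k1, k7⟩, ⟨k8, k4, k0⟩, ⟨k1, k1, k5⟩),
  (⟨k4, k0, k4⟩, ⟨k2, k5, k1⟩, ⟨k2, k7, k1⟩),
  (⟨k2, k5, k2⟩, ⟨k8, k0, k4⟩, ⟨k1, k5, k1⟩),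
  (⟨k4, k4, k0⟩, ⟨k2, k1, k5⟩, ⟨k1, k2, k5⟩),
  (⟨k2, k2, k5⟩, ⟨k4, k8, k0⟩, ⟨k1, k1, k5⟩),
  (⟨k1, k2, k5⟩, ⟨k4, k4, k0⟩, ⟨k2, k1, k5⟩),
  (⟨k4, k0, k4⟩, ⟨k1, k7, k2⟩, ⟨k1, k5, k2⟩),
  (⟨k2, k5, k2⟩, ⟨k4, k0, k8⟩, ⟨k2, k7, k2⟩),
  (⟨k4, k4, k0⟩, ⟨k1, k2, k7⟩, ⟨k2, k1, k7⟩),
  (⟨k2, k2, k5⟩, ⟨k8, k4, k0⟩, ⟨k2, k2, k7⟩),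
  (⟨k1, k2, k5⟩, ⟨k8, k8, k0⟩, ⟨k1, k2, k7⟩),
  (⟨k7, k1, k1⟩, ⟨k0, k4, k8⟩, ⟨k7, k2, k2⟩),
  (⟨k2, k7, k1⟩, ⟨k8, k0, k8⟩, ⟨k1, k7, k2⟩),
  (⟨k4, k8, k0⟩, ⟨k2, k2, k7⟩, ⟨k1, k1, k7⟩),
  (⟨k2, k5, k1⟩, ⟨k8, k0, k8⟩, ⟨k2, k7, k1⟩),
  (⟨k2, k1, k7⟩, ⟨k4, k4, k0⟩, ⟨k1, k2, k7⟩),
  (⟨k7, k2, k1⟩, ⟨k7, k1, k2⟩, ⟨k0, k8, k8⟩),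
  (⟨k2, k7, k1⟩, ⟨k2, k5, k1⟩, ⟨k8, k0, k8⟩),
  (⟨k7, k1, k1⟩, ⟨k0, k8, k4⟩, ⟨k5, k1, k1⟩),
  (⟨k2, k7, k1⟩, ⟨k4, k0, k4⟩, ⟨k2, k5, k1⟩),
  (⟨k4, k8, k0⟩, ⟨k1, k1, k5⟩, ⟨k2, k2, k5⟩),
  (⟨k2, k5, k1⟩, ⟨k4, k0, k4⟩, ⟨k1, k5, k2⟩),
  (⟨k2, k1, k7⟩, ⟨k8, k8, k0⟩, ⟨k2, k1, k5⟩),
  (⟨k7, k2, k1⟩, ⟨k5, k2, k1⟩, ⟨k0, k4, k4⟩),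
  (⟨k2, k7, k1⟩, ⟨k1, k7, k2⟩, ⟨k4, k0, k4⟩),
  (⟨k7, k2, k2⟩, ⟨k0, k8, k4⟩, ⟨k7, k1, k1⟩),
  (⟨k1, k2, k7⟩, ⟨k4, k4, k0⟩, ⟨k1, k2, k5⟩),
  (⟨k7, k2, k2⟩, ⟨k5, k2, k2⟩, ⟨k0, k8, k4⟩),
  (⟨k7, k1, k2⟩, ⟨k0, k4, k4⟩, ⟨k5, k1, k2⟩),
  (⟨k2, k7, k2⟩, ⟨k8, k0, k4⟩, ⟨k2, k5, k2⟩),
  (⟨k1, k5, k2⟩, ⟨k2, k5, k1⟩, ⟨k4, k0, k4⟩),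
  (⟨k7, k1, k2⟩, ⟨k7, k2, k1⟩, ⟨k0, k4, k4⟩),
  (⟨k2, k5, k2⟩, ⟨k2, k7, k2⟩, ⟨k8, k0, k4⟩),
  (⟨k7, k2, k2⟩, ⟨k0, k4, k8⟩, ⟨k5, k2, k2⟩),
  (⟨k1, k2, k7⟩, ⟨k8, k8, k0⟩, ⟨k2, k1, k7⟩),
  (⟨k7, k2, k2⟩, ⟨k7, k1, k1⟩, ⟨k0, k4, k8⟩),
  (⟨k7, k1, k2⟩, ⟨k0, k8, k8⟩, ⟨k7, k2, k1⟩),
  (⟨k2, k7, k2⟩, ⟨k4, k0, k8⟩, ⟨k1, k7, k1⟩),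
  (⟨k1, k5, k2⟩, ⟨k1, k7, k2⟩, ⟨k8, k0, k8⟩),
  (⟨k7, k1, k2⟩, ⟨k5, k1, k2⟩, ⟨k0, k8, k8⟩),
  (⟨k2, k5, k2⟩, ⟨k1, k5, k1⟩, ⟨k4, k0, k8⟩),
  (⟨k1, k1, k5⟩, ⟨k4, k8, k0⟩, ⟨k1, k1, k7⟩),
  (⟨k7, k1, k1⟩, ⟨k5, k1, k1⟩, ⟨k0, k4, k8⟩),
  (⟨k1, k2, k5⟩, ⟨k2, k1, k5⟩, ⟨k8, k8, k0⟩),
  (⟨k7, k2, k1⟩, ⟨k0, k8, k8⟩, ⟨k5, k2, k1⟩),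
  (⟨k2, k0, k0⟩, ⟨k0, k0, k2⟩, ⟨k0, k2, k0⟩),
  (⟨k8, k0, k4⟩, ⟨k1, k7, k1⟩, ⟨k1, k5, k1⟩),
  (⟨k1, k7, k1⟩, ⟨k2, k7, k2⟩, ⟨k4, k0, k8⟩),
  (⟨k5, k1, k1⟩, ⟨k0, k4, k8⟩, ⟨k7, k1, k1⟩),
  (⟨k2, k0, k0⟩, ⟨k0, k1, k0⟩, ⟨k0, k0, k2⟩),
  (⟨k1, k5, k1⟩, ⟨k8, k0, k4⟩, ⟨k1, k7, k1⟩),
  (⟨k1, k1, k5⟩, ⟨k8, k4, k0⟩, ⟨k2, k2, k5⟩),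
  (⟨k7, k1, k1⟩, ⟨k7, k2, k2⟩, ⟨k0, k8, k4⟩),
  (⟨k1, k2, k5⟩, ⟨k1, k2, k7⟩, ⟨k4, k4, k0⟩),
  (⟨k7, k2, k1⟩, ⟨k0, k4, k4⟩, ⟨k7, k1, k2⟩),
  (⟨k2, k0, k0⟩, ⟨k0, k0, k1⟩, ⟨k0, k1, k0⟩),
  (⟨k8, k0, k4⟩, ⟨k2, k5, k2⟩, ⟨k2, k7, k2⟩),
  (⟨k1, k7, k1⟩, ⟨k1, k5, k1⟩, ⟨k8, k0, k4⟩),
  (⟨k5, k1, k1⟩, ⟨k0, k8, k4⟩, ⟨k5, k2, k2⟩),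
  (⟨k2, k0, k0⟩, ⟨k0, k2, k0⟩, ⟨k0, k0, k1⟩),
  (⟨k1, k5, k1⟩, ⟨k4, k0, k8⟩, ⟨k2, k5, k2⟩),
  (⟨k0, k8, k8⟩, ⟨k7, k1, k2⟩, ⟨k5, k1, k2⟩),
  (⟨k1, k2, k7⟩, ⟨k2, k1, k7⟩, ⟨k4, k4, k0⟩),
  (⟨k1, k1, k7⟩, ⟨k2, k2, k7⟩, ⟨k8, k4, k0⟩),
  (⟨k0, k1, k0⟩, ⟨k0, k0, k1⟩, ⟨k1, k0, k0⟩),
  (⟨k8, k0, k8⟩, ⟨k1, k5, k2⟩, ⟨k1, k7, k2⟩),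
  (⟨k5, k2, k2⟩, ⟨k0, k8, k4⟩, ⟨k7, k2, k2⟩),
  (⟨k4, k8, k0⟩, ⟨k2, k2, k5⟩, ⟨k2, k2, k7⟩),
  (⟨k1, k7, k2⟩, ⟨k8, k0, k8⟩, ⟨k1, k5, k2⟩),
  (⟨k4, k0, k8⟩, ⟨k1, k7, k1⟩, ⟨k2, k7, k2⟩),
  (⟨k0, k8, k8⟩, ⟨k5, k2, k1⟩, ⟨k7, k2, k1⟩),
  (⟨k1, k2, k7⟩, ⟨k1, k2, k5⟩, ⟨k8, k8, k0⟩),
  (⟨k1, k1, k7⟩, ⟨k1, k1, k5⟩, ⟨k4, k8, k0⟩),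
  (⟨k0, k1, k0⟩, ⟨k0, k0, k2⟩, ⟨k2, k0, k0⟩),
  (⟨k8, k0, k8⟩, ⟨k2, k7, k1⟩, ⟨k2, k5, k1⟩),
  (⟨k5, k2, k2⟩, ⟨k0, k4, k8⟩, ⟨k5, k1, k1⟩),
  (⟨k4, k8, k0⟩, ⟨k1, k1, k7⟩, ⟨k1, k1, k5⟩),
  (⟨k1, k7, k2⟩, ⟨k4, k0, k4⟩, ⟨k2, k7, k1⟩),
  (⟨k4, k0, k8⟩, ⟨k2, k5, k2⟩, ⟨k1, k5, k1⟩),
  (⟨k0, k4, k4⟩, ⟨k7, k2, k1⟩, ⟨k5, k2, k1⟩),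
  (⟨k0, k0, k1⟩, ⟨k2, k0, k0⟩, ⟨k0, k2, k0⟩),
  (⟨k1, k1, k5⟩, ⟨k2, k2, k5⟩, ⟨k4, k8, k0⟩),
  (⟨k4, k0, k4⟩, ⟨k1, k5, k2⟩, ⟨k2, k5, k1⟩),
  (⟨k5, k1, k2⟩, ⟨k0, k4, k4⟩, ⟨k5, k2, k1⟩),
  (⟨k0, k2, k0⟩, ⟨k0, k0, k2⟩, ⟨k1, k0, k0⟩),
  (⟨k2, k2, k5⟩, ⟨k1, k1, k5⟩, ⟨k8, k4, k0⟩),
  (⟨k5, k2, k2⟩, ⟨k5, k1, k1⟩, ⟨k0, k8, k4⟩),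
  (⟨k2, k1, k5⟩, ⟨k8, k8, k0⟩, ⟨k1, k2, k5⟩),
  (⟨k4, k4, k0⟩, ⟨k2, k1, k7⟩, ⟨k2, k1, k5⟩),
  (⟨k0, k8, k4⟩, ⟨k5, k2, k2⟩, ⟨k5, k1, k1⟩),
  (⟨k0, k4, k4⟩, ⟨k5, k1, k2⟩, ⟨k7, k1, k2⟩),
  (⟨k0, k0, k1⟩, ⟨k1, k0, k0⟩, ⟨k0, k1, k0⟩),
  (⟨k1, k1, k5⟩, ⟨k1, k1, k7⟩, ⟨k8, k4, k0⟩),
  (⟨k4, k0, k4⟩, ⟨k2, k7, k1⟩, ⟨k1, k7, k2⟩),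
  (⟨k5, k1, k2⟩, ⟨k0, k8, k8⟩, ⟨k7, k1, k2⟩),
  (⟨k0, k2, k0⟩, ⟨k0, k0, k1⟩, ⟨k2, k0, k0⟩),
  (⟨k2, k2, k5⟩, ⟨k2, k2, k7⟩, ⟨k4, k8, k0⟩),
  (⟨k5, k2, k2⟩, ⟨k7, k2, k2⟩, ⟨k0, k4, k8⟩),
  (⟨k2, k1, k5⟩, ⟨k4, k4, k0⟩, ⟨k2, k1, k7⟩),
  (⟨k4, k4, k0⟩, ⟨k1, k2, k5⟩, ⟨k1, k2, k7⟩),
  (⟨k0, k8, k4⟩, ⟨k7, k1, k1⟩, ⟨k7, k2, k2⟩),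
  (⟨k0, k0, k2⟩, ⟨k0, k1, k0⟩, ⟨k1, k0, k0⟩),
  (⟨k0, k0, k2⟩, ⟨k2, k0, k0⟩, ⟨k0, k1, k0⟩),
  (⟨k0, k8, k8⟩, ⟨k7, k2, k1⟩, ⟨k7, k1, k2⟩),
  (⟨k5, k2, k1⟩, ⟨k0, k8, k8⟩, ⟨k5, k1, k2⟩),
  (⟨k2, k1, k7⟩, ⟨k1, k2, k7⟩, ⟨k8, k8, k0⟩),
  (⟨k5, k1, k1⟩, ⟨k5, k2, k2⟩, ⟨k0, k4, k8⟩),
  (⟨k2, k1, k5⟩, ⟨k2, k1, k7⟩, ⟨k8, k8, k0⟩),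
  (⟨k2, k2, k7⟩, ⟨k8, k4, k0⟩, ⟨k1, k1, k7⟩),
  (⟨k8, k0, k8⟩, ⟨k1, k7, k2⟩, ⟨k2, k7, k1⟩),
  (⟨k2, k5, k1⟩, ⟨k1, k5, k2⟩, ⟨k8, k0, k8⟩),
  (⟨k0, k4, k8⟩, ⟨k5, k1, k1⟩, ⟨k5, k2, k2⟩),
  (⟨k8, k8, k0⟩, ⟨k2, k1, k5⟩, ⟨k2, k1, k7⟩),
  (⟨k0, k0, k2⟩, ⟨k0, k2, k0⟩, ⟨k2, k0, k0⟩),
  (⟨k0, k0, k2⟩, ⟨k1, k0, k0⟩, ⟨k0, k2, k0⟩),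
  (⟨k0, k8, k8⟩, ⟨k5, k1, k2⟩, ⟨k5, k2, k1⟩),
  (⟨k5, k2, k1⟩, ⟨k0, k4, k4⟩, ⟨k7, k2, k1⟩),
  (⟨k2, k1, k7⟩, ⟨k2, k1, k5⟩, ⟨k4, k4, k0⟩),
  (⟨k5, k1, k1⟩, ⟨k7, k1, k1⟩, ⟨k0, k8, k4⟩),
  (⟨k2, k1, k5⟩, ⟨k1, k2, k5⟩, ⟨k4, k4, k0⟩),
  (⟨k2, k2, k7⟩, ⟨k4, k8, k0⟩, ⟨k2, k2, k5⟩),
  (⟨k8, k0, k8⟩, ⟨k2, k5, k1⟩, ⟨k1, k5, k2⟩),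
  (⟨k2, k5, k1⟩, ⟨k2, k7, k1⟩, ⟨k4, k0, k4⟩),
  (⟨k0, k4, k8⟩, ⟨k7, k2, k2⟩, ⟨k7, k1, k1⟩),
  (⟨k8, k8, k0⟩, ⟨k1, k2, k7⟩, ⟨k1, k2, k5⟩),
  (⟨k0, k0, k1⟩, ⟨k0, k2, k0⟩, ⟨k1, k0, k0⟩),
  (⟨k2, k2, k7⟩, ⟨k2, k2, k5⟩, ⟨k8, k4, k0⟩),
  (⟨k0, k4, k4⟩, ⟨k7, k1, k2⟩, ⟨k7, k2, k1⟩),
  (⟨k0, k0, k1⟩, ⟨k0, k1, k0⟩, ⟨k2, k0, k0⟩),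
  (⟨k1, k0, k0⟩, ⟨k0, k0, k1⟩, ⟨k0, k2, k0⟩),
  (⟨k1, k5, k2⟩, ⟨k4, k0, k4⟩, ⟨k1, k7, k2⟩),
  (⟨k0, k4, k4⟩, ⟨k5, k2, k1⟩, ⟨k5, k1, k2⟩),
  (⟨k8, k0, k4⟩, ⟨k1, k5, k1⟩, ⟨k2, k5, k2⟩),
  (⟨k2, k7, k2⟩, ⟨k1, k7, k1⟩, ⟨k8, k0, k4⟩),
  (⟨k8, k4, k0⟩, ⟨k2, k2, k7⟩, ⟨k2, k2, k5⟩),
  (⟨k2, k2, k7⟩, ⟨k1, k1, k7⟩, ⟨k4, k8, k0⟩),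
  (⟨k1, k0, k0⟩, ⟨k0, k0, k2⟩, ⟨k0, k1, k0⟩),
  (⟨k1, k5, k2⟩, ⟨k8, k0, k8⟩, ⟨k2, k5, k1⟩),
  (⟨k8, k0, k4⟩, ⟨k2, k7, k2⟩, ⟨k1, k7, k1⟩),
  (⟨k2, k7, k2⟩, ⟨k2, k5, k2⟩, ⟨k4, k0, k8⟩),
  (⟨k8, k4, k0⟩, ⟨k1, k1, k5⟩, ⟨k1, k1, k7⟩),
  (⟨k1, k7, k1⟩, ⟨k4, k0, k8⟩, ⟨k1, k5, k1⟩),
  (⟨k1, k7, k1⟩, ⟨k8, k0, k4⟩, ⟨k2, k7, k2⟩)]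

/-- left multiplication by the involution -/
def ta : List ℕ := [1, 0, 4, 6, 2, 9, 3, 11, 12, 5, 15, 7, 8, 19, 20, 10, 23, 24, 26, 13, 14, 30, 31, 16, 17, 35, 18, 37, 38, 40, 21, 22, 44, 45, 47, 25, 50, 27, 28, 54, 29, 56, 57, 58, 32, 33, 62, 34, 64, 65, 36, 66, 67, 69, 39, 72, 41, 42, 43, 76, 77, 79, 46, 82, 48, 49, 51, 52, 88, 53, 80, 90, 55, 91, 84, 93, 59, 60, 97, 61, 70, 99, 63, 100, 74, 102, 104, 106, 68, 109, 71, 73, 113, 75, 107, 115, 117, 78, 120, 81, 83, 124, 85, 118, 86, 127, 87, 94, 129, 89, 130, 131, 133, 92, 136, 95, 139, 96, 103, 141, 98, 142, 143, 145, 101, 148, 150, 105, 152, 108, 110, 111, 151, 112,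 157, 158, 114, 159, 153, 116, 156, 119, 121, 122, 160, 123, 163, 164, 125, 165, 126, 132, 128, 138, 161, 166, 140, 134, 135, 137, 144, 154, 167, 146, 147, 149, 155, 162]

/-- left multiplication by the element of order three -/
def tb : List ℕ := [2, 3, 5, 7, 8, 0, 10, 1, 13, 14, 16, 17, 18, 4, 21, 22, 6, 25, 27, 28, 29, 9, 32, 33, 34, 11, 36, 12, 39, 41, 42, 43, 15, 46, 48, 49, 51, 52, 53, 19, 55, 20, 58, 59, 60, 61, 23, 63, 24, 50, 35, 26, 68, 70, 71, 73, 74, 75, 30, 31, 78, 80, 81, 83, 84, 85, 86, 87, 37, 89, 38, 72, 54, 40, 92, 94, 95, 96, 44, 98, 45, 82, 62, 47, 101, 103, 105, 107, 108, 110, 111, 112, 56, 114, 57,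 116, 118, 119, 121, 122, 123, 64, 125, 65, 126, 66, 128, 67, 109, 88, 69, 132, 134, 135, 137, 138, 76, 140, 77, 120, 97, 79, 144, 146, 147, 149, 151, 145, 153, 154, 155, 142, 90, 156, 91, 136, 113, 93, 160, 133, 150, 161, 162, 130, 99, 152, 100, 148, 124, 102, 117, 104, 127, 106, 165, 143, 139, 166, 163, 141, 115, 159, 131, 167, 157, 129, 164, 158]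

/-- rows of the element of order three -/
def RB : T3 × T3 × T3 := (⟨k8, k2, k1⟩, ⟨k4, k2, k1⟩, ⟨k0, k5, k5⟩)

/-- action on columns -/
def act (R : T3 × T3 × T3) (c : T3 × T3 × T3) : T3 × T3 × T3 := (mT R c.1, mT R c.2.1, mT R c.2.2)

/-- check of two tables -/
def chk (R : T3 × T3 × T3) : List (T3 × T3 × T3) → List ℕ → Bool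
  | c :: cs, n :: ns => decide (n < 168) && decide (act R c = tab.getD n (⟨0, 0, 0⟩, ⟨0, 0, 0⟩, ⟨0, 0, 0⟩)) && chk R cs ns
  | [], [] => true
  | _, _ => false

theorem chkA : chk R1 tab ta = true := by decide +kernel
theorem chkB : chk RB tab tb = true := by decide +kernel

end H76.U33
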